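import Cfsg.Agent.Ly.Core

/-! Generated data: configurations and branch-and-bound certificates. -/

set_option autoImplicit false
set_option maxRecDepth 100000

namespace CF.Ly.E3

def rot (l : List ℤ) : List ℤ := l

def t0 : Ty := ⟨0, [1, 1, 1, 1, 1, 4, 0, 0, 0, 0, 0, 0, 0, 0, 0, 0, 1, 1, 1, 1, 1, 1, 1, 1, 1, -2, 1, 1, 1, -2, 1, 1, -2, 1, -2, -2], [-1, -1, -1, -1, -1, 2], 3, 51, 51, -13⟩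
def t1 : Ty := ⟨1, [1, 1, 1, 1, 1, 1, 0, 0, 0, 0, 0, 0, 0, 0, 0, 0, 0, 0, 0, 0, 0, 1, 1, 1, 1, -1, 1, 1, 1, -1, 1, 1, -1, 1, -1, -1], [1, 1, 1, 1, 1, -1], 1, 1, 65, -63⟩
def t2 : Ty := ⟨2, [1, 1, 1, 1, 1, 0, 0, 0, 0, 0, 0, 0, 0, 0, 0, 0, 1, 1, 1, 1, 1, 1, 1, 1, 1, 0, 1, 1, 1, 0, 1, 1, 0, 1, 0, 0], [1, 1, 1, 1, 1, 0], 5, 53, 53, -75⟩
def t3 : Ty := ⟨3, [1, 0, 0, 0, 0, 1, 1, 1, 0, 1, 0, 0, 1, 0, 0, 0, 0, 1, 1, 1, 1, 0, 0, 0, 0, -1, 0, 0, 0, 0, 0, 0, 0, 0, 0, 0], [-1, 0, 0, 0, 0, 1], 3, 3, 67, -61⟩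
def t4 : Ty := ⟨4, [1, 0, 0, 0, 0, 0, 1, 1, 0, 1, 0, 0, 1, 0, 0, 0, 1, 0, 0, 0, 0, 0, 0, 0, 0, 0, 0, 0, 0, 0, 0, 0, 0, 0, 0, 0], [1, 0, 0, 0, 0, 0], 1, 49, 49, -15⟩
def t5 : Ty := ⟨5, [0, 1, 0, 0, 0, 1, 1, 0, 1, 0, 1, 0, 0, 1, 0, 0, 1, 0, 1, 1, 1, 0, 0, 0, 0, 0, 0, 0, 0, -1, 0, 0, 0, 0, 0, 0], [0, -1, 0, 0, 0, 1], 3, 3, 67, -61⟩
def t6 : Ty := ⟨6, [0, 1, 0, 0, 0, 0, 1, 0, 1, 0, 1, 0, 0, 1, 0, 0, 0, 1, 0, 0, 0, 0, 0, 0, 0, 0, 0, 0, 0, 0, 0, 0, 0, 0, 0, 0], [0, 1, 0, 0, 0, 0], 1, 49, 49, -15⟩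
def t7 : Ty := ⟨7, [0, 0, 1, 0, 0, 1, 0, 1, 1, 0, 0, 1, 0, 0, 1, 0, 1, 1, 0, 1, 1, 0, 0, 0, 0, 0, 0, 0, 0, 0, 0, 0, -1, 0, 0, 0], [0, 0, -1, 0, 0, 1], 3, 3, 67, -61⟩
def t8 : Ty := ⟨8, [0, 0, 1, 0, 0, 0, 0, 1, 1, 0, 0, 1, 0, 0, 1, 0, 0, 0, 1, 0, 0, 0, 0, 0, 0, 0, 0, 0, 0, 0, 0, 0, 0, 0, 0, 0], [0, 0, 1, 0, 0, 0], 1, 49, 49, -15⟩
def t9 : Ty := ⟨9, [0, 0, 0, 1, 0, 1, 0, 0, 0, 1, 1, 1, 0, 0, 0, 1, 1, 1, 1, 0, 1, 0, 0, 0, 0, 0, 0, 0, 0, 0, 0, 0, 0, 0, -1, 0], [0, 0, 0, -1, 0, 1], 3, 3, 67, -61⟩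
def t10 : Ty := ⟨10, [0, 0, 0, 1, 0, 0, 0, 0, 0, 1, 1, 1, 0, 0, 0, 1, 0, 0, 0, 1, 0, 0, 0, 0, 0, 0, 0, 0, 0, 0, 0, 0, 0, 0, 0, 0], [0, 0, 0, 1, 0, 0], 1, 49, 49, -15⟩
def t11 : Ty := ⟨11, [0, 0, 0, 0, 1, 1, 0, 0, 0, 0, 0, 0, 1, 1, 1, 1, 1, 1, 1, 1, 0, 0, 0, 0, 0, 0, 0, 0, 0, 0, 0, 0, 0, 0, 0, -1], [0, 0, 0, 0, -1, 1], 3, 3, 67, -61⟩
def t12 : Ty := ⟨12, [0, 0, 0, 0, 1, 0, 0, 0, 0, 0, 0, 0, 1, 1, 1, 1, 0, 0, 0, 0, 1, 0, 0, 0, 0, 0, 0, 0, 0, 0, 0, 0, 0, 0, 0, 0], [0, 0, 0, 0, 1, 0], 1, 49, 49, -15⟩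
def t13 : Ty := ⟨13, [0, 0, 0, 0, 0, 1, 0, 0, 0, 0, 0, 0, 0, 0, 0, 0, 1, 1, 1, 1, 1, 0, 0, 0, 0, 0, 0, 0, 0, 0, 0, 0, 0, 0, 0, 0], [0, 0, 0, 0, 0, 1], 4, 52, 52, -76⟩
def o0 : List (List ℤ) := [[-1, -1, -1, -1, -1, 2]]
def o1 : List (List ℤ) := [[1, 1, 1, 1, 1, -1]]
def o2 : List (List ℤ) := [[1, 1, 1, 1, 1, 0]]
def o3 : List (List ℤ) := [[-1, 0, 0, 0, 0, 1]]
def o4 : List (List ℤ) := [[1, 0, 0, 0, 0, 0]]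
def o5 : List (List ℤ) := [[0, -1, 0, 0, 0, 1]]
def o6 : List (List ℤ) := [[0, 1, 0, 0, 0, 0]]
def o7 : List (List ℤ) := [[0, 0, -1, 0, 0, 1]]
def o8 : List (List ℤ) := [[0, 0, 1, 0, 0, 0]]
def o9 : List (List ℤ) := [[0, 0, 0, -1, 0, 1]]
def o10 : List (List ℤ) := [[0, 0, 0, 1, 0, 0]]
def o11 : List (List ℤ) := [[0, 0, 0, 0, -1, 1]]
def o12 : List (List ℤ) := [[0, 0, 0, 0, 1, 0]]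
def o13 : List (List ℤ) := [[0, 0, 0, 0, 0, 1]]

def pr : Prob where
  rot := rot
  α := [1, 1, 1, 1, 1, 4]
  γ := [-15, -15, -15, -15, -15, -12]
  tests := [([1, 0, 0, 0, 0, 0], [1, 0, 0, 0, 0, 0]),
    ([0, 1, 0, 0, 0, 0], [0, 1, 0, 0, 0, 0]),
    ([0, 0, 1, 0, 0, 0], [0, 0, 1, 0, 0, 0]),
    ([0, 0, 0, 1, 0, 0], [0, 0, 0, 1, 0, 0]),
    ([0, 0, 0, 0, 1, 0], [0, 0, 0, 0, 1, 0]),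
    ([0, 0, 0, 0, 0, 1], [0, 0, 0, 0, 0, 1]),
    ([-1, 1, 0, 0, 0, 0], [-1, 1, 0, 0, 0, 0]),
    ([-1, 0, 1, 0, 0, 0], [-1, 0, 1, 0, 0, 0]),
    ([0, -1, 1, 0, 0, 0], [0, -1, 1, 0, 0, 0]),
    ([-1, 0, 0, 1, 0, 0], [-1, 0, 0, 1, 0, 0]),
    ([0, -1, 0, 1, 0, 0], [0, -1, 0, 1, 0, 0]),
    ([0, 0, -1, 1, 0, 0], [0, 0, -1, 1, 0, 0]),
    ([-1, 0, 0, 0, 1, 0], [-1, 0, 0, 0, 1, 0]),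
    ([0, -1, 0, 0, 1, 0], [0, -1, 0, 0, 1, 0]),
    ([0, 0, -1, 0, 1, 0], [0, 0, -1, 0, 1, 0]),
    ([0, 0, 0, -1, 1, 0], [0, 0, 0, -1, 1, 0]),
    ([1, 0, 0, 0, 0, 1], [1, 0, 0, 0, 0, 1]),
    ([0, 1, 0, 0, 0, 1], [0, 1, 0, 0, 0, 1]),
    ([0, 0, 1, 0, 0, 1], [0, 0, 1, 0, 0, 1]),
    ([0, 0, 0, 1, 0, 1], [0, 0, 0, 1, 0, 1]),
    ([0, 0, 0, 0, 1, 1], [0, 0, 0, 0, 1, 1]),
    ([1, 0, 0, 0, 0, 0], [0, 1, 0, 0, 0, 0]),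
    ([1, 0, 0, 0, 0, 0], [0, 0, 1, 0, 0, 0]),
    ([1, 0, 0, 0, 0, 0], [0, 0, 0, 1, 0, 0]),
    ([1, 0, 0, 0, 0, 0], [0, 0, 0, 0, 1, 0]),
    ([1, 0, 0, 0, 0, 0], [0, 0, 0, 0, 0, 1]),
    ([0, 1, 0, 0, 0, 0], [0, 0, 1, 0, 0, 0]),
    ([0, 1, 0, 0, 0, 0], [0, 0, 0, 1, 0, 0]),
    ([0, 1, 0, 0, 0, 0], [0, 0, 0, 0, 1, 0]),
    ([0, 1, 0, 0, 0, 0], [0, 0, 0, 0, 0, 1]),
    ([0, 0, 1, 0, 0, 0], [0, 0, 0, 1, 0, 0]),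
    ([0, 0, 1, 0, 0, 0], [0, 0, 0, 0, 1, 0]),
    ([0, 0, 1, 0, 0, 0], [0, 0, 0, 0, 0, 1]),
    ([0, 0, 0, 1, 0, 0], [0, 0, 0, 0, 1, 0]),
    ([0, 0, 0, 1, 0, 0], [0, 0, 0, 0, 0, 1]),
    ([0, 0, 0, 0, 1, 0], [0, 0, 0, 0, 0, 1])]
  Γ := [[3, 2, 2, 2, 2, -3], [2, 3, 2, 2, 2, -3], [2, 2, 3, 2, 2, -3], [2, 2, 2, 3, 2, -3], [2, 2, 2, 2, 3, -3], [-3, -3, -3, -3, -3, 8]]
  r0 := [1, 1, 1, 1, 1, -1]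
  t := [0, 0, 0, 0, 0, -1]
  P := [(t0, o0), (t1, o1), (t2, o2), (t3, o3), (t4, o4), (t5, o5), (t6, o6), (t7, o7), (t8, o8), (t9, o9), (t10, o10), (t11, o11), (t12, o12), (t13, o13)]

def its : List Item := [.ty t0, .ty t1, .ty t2, .bar [21, 22, 23, 24, 26, 27, 28, 30, 31, 33], .ty t3, .bar [25], .ty t4, .bar [0], .ty t5, .bar [29], .ty t6, .bar [1, 6], .ty t7, .bar [32], .ty t8, .bar [2, 7, 8], .ty t9, .bar [34], .ty t10, .bar [3, 9, 10, 11], .ty t11, .bar [35], .ty t12, .bar [4, 12, 13, 14, 15], .ty t13]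

def leaves : List (List ℕ) := [[13, 11, 9, 7, 5, 3, 1, 1],
  [13, 13, 13, 12, 10, 8, 6, 4, 1, 0]]

def mx : List (List ℤ) := [[53, -11, -11, -11, -11, 4], [-11, 53, -11, -11, -11, 4], [-11, -11, 53, -11, -11, 4], [-11, -11, -11, 53, -11, 4], [-11, -11, -11, -11, 53, 4], [4, 4, 4, 4, 4, 16]]

def del : List ℤ := [1, 1, 1, 1, 1, 4]

def bx : List (List ℤ) := [[-1, 0, 1], [-1, 0, 1], [-1, 0, 1], [-1, 0, 1], [-1, 0, 1], [-2, -1, 0, 1, 2]]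

theorem h_wf : wf 21 pr.tests.length its = true := by decide +kernel

theorem h_chk : chk 21 leaves 300 its (pr.tests.map fun cd => bil pr.Γ cd.1 cd.2) [] = true := by
  decide +kernel

theorem h_id : (tysOf its).map Ty.id = List.range (tysOf its).length := by decide +kernel

theorem h_P : tysOf its = pr.P.map Prod.fst := rfl

theorem h_ok : pr.P.all (fun e => pr.tyOK e.1 e.2) = true := by decide +kernel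

theorem h_nd : pr.all.Nodup := by decide +kernel

theorem h_all : ∀ r ∈ pr.all, dot r r ≠ 0 := by decide +kernel

theorem h_box : boxAll bx (pr.boxF mx del) = true := by decide +kernel

def c0 : Cert := .R [0, 0, 0, 0, 1, 0]

theorem l0 : leafOK pr.r0 pr.t (tysOf its) [13, 11, 9, 7, 5, 3, 1, 1] c0 = true := by decide +kernel

def c1 : Cert := .R [0, 0, 0, 0, 1, 0]

theorem l1 : leafOK pr.r0 pr.t (tysOf its) [13, 13, 13, 12, 10, 8, 6, 4, 1, 0] c1 = true := by decide +kernel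

theorem h_l : ∀ ids ∈ leaves, ∃ C, leafOK pr.r0 pr.t (tysOf its) ids C = true := by
  simp only [leaves, List.forall_mem_cons]
  exact ⟨⟨_, l0⟩, ⟨_, l1⟩, by simp⟩

end CF.Ly.E3
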