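import Cfsg.Agent.Ly.Core

/-! Generated data: configurations and branch-and-bound certificates. -/

set_option autoImplicit false
set_option maxRecDepth 100000

namespace CF.Ly.E15

def rot : List ℤ → List ℤ
  | [a, b, c, d, e, f] => [a, b, f, c, d, e]
  | l => l

theorem rot_realize : True := by
  have := @rot.eq_def; have := @rot.eq_1; have := @rot.eq_2; trivial

def t0 : Ty := ⟨0, [4, 3, 64, 2, 2, 1, 4, 0, 10, 13, -16, 3, -12, 2, 2], [-4, 16, -3, -3, -3, -3], 16, 16, 80, -112⟩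
def t1 : Ty := ⟨1, [4, 3, 36, 2, 2, 1, 0, 4, 2, 3, -12, 3, -9, 2, 2], [-4, 12, -3, -3, -3, -3], 11, 27, 27, -37⟩
def t2 : Ty := ⟨2, [4, 3, 16, 2, 2, 1, 4, 16, 2, 1, -8, 3, -6, 2, 2], [-4, 8, -3, -3, -3, -3], 6, 38, 38, -26⟩
def t3 : Ty := ⟨3, [4, 3, 4, 2, 2, 1, 16, 36, 10, 7, -4, 3, -3, 2, 2], [-4, 4, -3, -3, -3, -3], 1, 49, 49, -15⟩
def t4 : Ty := ⟨4, [4, 3, 4, 6, 10, 5, 0, 4, 6, 3, -4, 1, -1, 0, -2], [-4, 4, -1, -1, -1, -1], 3, 51, 51, -13⟩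
def t5 : Ty := ⟨5, [4, 3, 4, 6, 10, 5, 0, 4, 6, 3, -4, 1, -1, 0, -2], [-4, 4, -1, -1, -1, -1], 3, 51, 51, -13⟩
def t6 : Ty := ⟨6, [4, 3, 4, 10, 2, 5, 0, 4, 2, 3, -4, 1, -1, -2, 2], [-4, 4, -1, -1, -1, -1], 3, 51, 51, -13⟩
def t7 : Ty := ⟨7, [4, 3, 4, 2, 2, 13, 16, 4, 2, 7, 4, -3, -3, 2, 2], [4, 4, -3, -3, -3, -3], 3, 51, 51, -13⟩
def t8 : Ty := ⟨8, [4, 2, 36, 2, 4, 2, 4, 0, 6, 10, -12, 2, -6, 1, 0], [-4, 12, -2, -2, -2, -2], 12, 28, 28, -100⟩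
def t9 : Ty := ⟨9, [4, 2, 16, 2, 4, 2, 0, 4, 2, 2, -8, 2, -4, 1, 0], [-4, 8, -2, -2, -2, -2], 7, 39, 39, -25⟩
def t10 : Ty := ⟨10, [4, 2, 4, 2, 4, 2, 4, 16, 6, 2, -4, 2, -2, 1, 0], [-4, 4, -2, -2, -2, -2], 2, 50, 50, -14⟩
def t11 : Ty := ⟨11, [4, 2, 4, 6, 4, 6, 4, 0, 2, 6, -4, 0, 0, -1, 0], [-4, 4, 0, 0, 0, 0], 4, 52, 52, -76⟩
def t12 : Ty := ⟨12, [4, 2, 4, 4, 8, 6, 4, 0, 4, 6, -4, 0, 0, 0, -2], [-4, 4, 0, 0, 0, 0], 4, 52, 52, -76⟩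
def t13 : Ty := ⟨13, [4, 2, 4, 6, 4, 6, 4, 0, 2, 6, -4, 0, 0, -1, 0], [-4, 4, 0, 0, 0, 0], 4, 52, 52, -76⟩
def t14 : Ty := ⟨14, [4, 2, 4, 2, 4, 10, 4, 0, 6, 2, 4, -2, -2, 1, 0], [4, 4, -2, -2, -2, -2], 4, 52, 52, -76⟩
def t15 : Ty := ⟨15, [4, 2, 0, 2, 4, 10, 16, 4, 2, 10, 0, -2, 0, 1, 0], [-4, 0, 2, 2, 2, 2], 1, 1, 65, -63⟩
def t16 : Ty := ⟨16, [4, 2, 0, 6, 4, 6, 0, 4, 6, 2, 0, 0, 0, -1, 0], [4, 0, 0, 0, 0, 0], 1, 1, 65, -63⟩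
def t17 : Ty := ⟨17, [4, 2, 0, 4, 8, 6, 0, 4, 8, 2, 0, 0, 0, 0, -2], [4, 0, 0, 0, 0, 0], 1, 1, 65, -63⟩
def t18 : Ty := ⟨18, [4, 2, 0, 6, 4, 6, 0, 4, 6, 2, 0, 0, 0, -1, 0], [4, 0, 0, 0, 0, 0], 1, 1, 65, -63⟩
def t19 : Ty := ⟨19, [4, 2, 0, 2, 4, 2, 16, 36, 18, 10, 0, 2, 0, 1, 0], [4, 0, 2, 2, 2, 2], 3, 3, 67, -61⟩
def t20 : Ty := ⟨20, [4, 1, 36, 2, 2, 3, 16, 4, 10, 21, -12, 1, -3, 0, 0], [-4, 12, -1, -1, -1, -1], 13, 29, 29, -99⟩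
def t21 : Ty := ⟨21, [2, 1, 18, 2, 0, 1, 2, 0, 2, 5, -6, 1, -3, 0, 1], [-2, 6, -1, -1, -1, -1], 12, 28, 28, -100⟩
def t22 : Ty := ⟨22, [4, 1, 16, 2, 2, 3, 4, 0, 2, 7, -8, 1, -2, 0, 0], [-4, 8, -1, -1, -1, -1], 8, 40, 40, -88⟩
def t23 : Ty := ⟨23, [1, 1, 16, 0, 0, 0, 0, 1, 1, 1, -4, 1, -4, 1, 1], [-1, 4, -1, -1, -1, -1], 15, 15, 79, -49⟩
def t24 : Ty := ⟨24, [1, 1, 9, 0, 0, 0, 1, 4, 0, 0, -3, 1, -3, 1, 1], [-1, 3, -1, -1, -1, -1], 10, 26, 26, -38⟩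
def t25 : Ty := ⟨25, [2, 1, 8, 2, 0, 1, 0, 2, 0, 1, -4, 1, -2, 0, 1], [-2, 4, -1, -1, -1, -1], 7, 39, 39, -25⟩
def t26 : Ty := ⟨26, [4, 1, 4, 2, 2, 3, 0, 4, 2, 1, -4, 1, -1, 0, 0], [-4, 4, -1, -1, -1, -1], 3, 51, 51, -13⟩
def t27 : Ty := ⟨27, [4, 1, 4, 2, 2, 7, 16, 4, 2, 13, -4, -1, 1, 0, 0], [-4, 4, 1, 1, 1, 1], 5, 53, 53, -75⟩
def t28 : Ty := ⟨28, [1, 1, 4, 0, 0, 0, 4, 9, 1, 1, -2, 1, -2, 1, 1], [-1, 2, -1, -1, -1, -1], 5, 37, 37, -27⟩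
def t29 : Ty := ⟨29, [4, 1, 4, 2, 2, 7, 0, 4, 10, 1, 4, -1, -1, 0, 0], [4, 4, -1, -1, -1, -1], 5, 53, 53, -75⟩
def t30 : Ty := ⟨30, [2, 1, 2, 2, 0, 1, 2, 8, 2, 1, -2, 1, -1, 0, 1], [-2, 2, -1, -1, -1, -1], 2, 50, 50, -14⟩
def t31 : Ty := ⟨31, [2, 1, 2, 2, 0, 5, 2, 0, 2, 1, 2, -1, -1, 0, 1], [2, 2, -1, -1, -1, -1], 4, 52, 52, -76⟩
def t32 : Ty := ⟨32, [2, 1, 0, 2, 0, 5, 8, 2, 0, 5, 0, -1, 0, 0, 1], [-2, 0, 1, 1, 1, 1], 1, 1, 65, -63⟩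
def t33 : Ty := ⟨33, [4, 1, 0, 2, 2, 3, 4, 16, 10, 3, 0, 1, 0, 0, 0], [4, 0, 1, 1, 1, 1], 2, 2, 66, -62⟩
def t34 : Ty := ⟨34, [2, 1, 0, 2, 0, 1, 8, 18, 8, 5, 0, 1, 0, 0, 1], [2, 0, 1, 1, 1, 1], 3, 3, 67, -61⟩
def t35 : Ty := ⟨35, [1, 0, 4, 0, 0, 1, 4, 1, 1, 4, -2, 0, 0, 0, 0], [-1, 2, 0, 0, 0, 0], 9, 41, 41, -87⟩
def t36 : Ty := ⟨36, [1, 0, 1, 0, 0, 1, 1, 0, 0, 1, -1, 0, 0, 0, 0], [-1, 1, 0, 0, 0, 0], 4, 52, 52, -76⟩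
def t37 : Ty := ⟨37, [1, 0, 1, 0, 0, 1, 1, 4, 4, 1, 1, 0, 0, 0, 0], [1, 1, 0, 0, 0, 0], 6, 54, 54, -74⟩
def t38 : Ty := ⟨38, [1, 0, 0, 0, 0, 1, 0, 1, 1, 0, 0, 0, 0, 0, 0], [1, 0, 0, 0, 0, 0], 1, 1, 65, -63⟩
def t39 : Ty := ⟨39, [0, 4, 4, 8, 8, 4, 4, 4, 4, 4, 0, 0, -2, 0, 0], [0, 4, -2, -2, -2, -2], 3, 51, 51, -13⟩
def t40 : Ty := ⟨40, [0, 4, 4, 8, 8, 4, 4, 4, 4, 4, 0, 0, -2, 0, 0], [0, 4, -2, -2, -2, -2], 3, 51, 51, -13⟩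
def t41 : Ty := ⟨41, [0, 3, 36, 2, 2, 3, 0, 0, 10, 3, 0, 0, -9, 2, 2], [0, 12, -3, -3, -3, -3], 12, 28, 28, -100⟩
def t42 : Ty := ⟨42, [0, 3, 16, 2, 2, 3, 4, 4, 2, 1, 0, 0, -6, 2, 2], [0, 8, -3, -3, -3, -3], 7, 39, 39, -25⟩
def t43 : Ty := ⟨43, [0, 3, 4, 2, 2, 3, 16, 16, 2, 7, 0, 0, -3, 2, 2], [0, 4, -3, -3, -3, -3], 2, 50, 50, -14⟩
def t44 : Ty := ⟨44, [0, 3, 4, 6, 10, 3, 0, 0, 6, 3, 0, 0, -1, 0, -2], [0, 4, -1, -1, -1, -1], 4, 52, 52, -76⟩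
def t45 : Ty := ⟨45, [0, 3, 4, 6, 10, 3, 0, 0, 6, 3, 0, 0, -1, 0, -2], [0, 4, -1, -1, -1, -1], 4, 52, 52, -76⟩
def t46 : Ty := ⟨46, [0, 3, 4, 10, 2, 3, 0, 0, 2, 3, 0, 0, -1, -2, 2], [0, 4, -1, -1, -1, -1], 4, 52, 52, -76⟩
def t47 : Ty := ⟨47, [0, 3, 0, 6, 10, 3, 4, 4, 6, 5, 0, 0, 0, 0, -2], [0, 0, 1, 1, 1, 1], 1, 1, 65, -63⟩
def t48 : Ty := ⟨48, [0, 3, 0, 10, 2, 3, 4, 4, 2, 5, 0, 0, 0, -2, 2], [0, 0, 1, 1, 1, 1], 1, 1, 65, -63⟩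
def t49 : Ty := ⟨49, [0, 3, 0, 6, 10, 3, 4, 4, 6, 5, 0, 0, 0, 0, -2], [0, 0, 1, 1, 1, 1], 1, 1, 65, -63⟩
def t50 : Ty := ⟨50, [0, 3, 0, 2, 2, 3, 36, 36, 10, 21, 0, 0, 0, 2, 2], [0, 0, 3, 3, 3, 3], 3, 3, 67, -61⟩
def t51 : Ty := ⟨51, [0, 2, 36, 2, 4, 2, 4, 4, 18, 10, 0, 0, -6, 1, 0], [0, 12, -2, -2, -2, -2], 13, 29, 29, -99⟩
def t52 : Ty := ⟨52, [0, 2, 16, 2, 4, 2, 0, 0, 6, 2, 0, 0, -4, 1, 0], [0, 8, -2, -2, -2, -2], 8, 40, 40, -88⟩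
def t53 : Ty := ⟨53, [0, 2, 4, 2, 4, 2, 4, 4, 2, 2, 0, 0, -2, 1, 0], [0, 4, -2, -2, -2, -2], 3, 51, 51, -13⟩
def t54 : Ty := ⟨54, [0, 2, 4, 6, 4, 2, 4, 4, 6, 6, 0, 0, 0, -1, 0], [0, 4, 0, 0, 0, 0], 5, 53, 53, -75⟩
def t55 : Ty := ⟨55, [0, 2, 4, 4, 8, 2, 4, 4, 8, 6, 0, 0, 0, 0, -2], [0, 4, 0, 0, 0, 0], 5, 53, 53, -75⟩
def t56 : Ty := ⟨56, [0, 2, 4, 6, 4, 2, 4, 4, 6, 6, 0, 0, 0, -1, 0], [0, 4, 0, 0, 0, 0], 5, 53, 53, -75⟩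
def t57 : Ty := ⟨57, [0, 2, 0, 2, 4, 2, 16, 16, 6, 10, 0, 0, 0, 1, 0], [0, 0, 2, 2, 2, 2], 2, 2, 66, -62⟩
def t58 : Ty := ⟨58, [0, 1, 18, 2, 0, 1, 2, 2, 8, 5, 0, 0, -3, 0, 1], [0, 6, -1, -1, -1, -1], 13, 29, 29, -99⟩
def t59 : Ty := ⟨59, [0, 1, 16, 2, 2, 1, 4, 4, 10, 7, 0, 0, -2, 0, 0], [0, 8, -1, -1, -1, -1], 9, 41, 41, -87⟩
def t60 : Ty := ⟨60, [0, 1, 9, 0, 0, 1, 1, 1, 1, 0, 0, 0, -3, 1, 1], [0, 3, -1, -1, -1, -1], 11, 27, 27, -37⟩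
def t61 : Ty := ⟨61, [0, 1, 8, 2, 0, 1, 0, 0, 2, 1, 0, 0, -2, 0, 1], [0, 4, -1, -1, -1, -1], 8, 40, 40, -88⟩
def t62 : Ty := ⟨62, [0, 1, 4, 2, 2, 1, 0, 0, 2, 1, 0, 0, -1, 0, 0], [0, 4, -1, -1, -1, -1], 4, 52, 52, -76⟩
def t63 : Ty := ⟨63, [0, 1, 4, 2, 2, 1, 16, 16, 10, 13, 0, 0, 1, 0, 0], [0, 4, 1, 1, 1, 1], 6, 54, 54, -74⟩
def t64 : Ty := ⟨64, [0, 1, 4, 0, 0, 1, 4, 4, 0, 1, 0, 0, -2, 1, 1], [0, 2, -1, -1, -1, -1], 6, 38, 38, -26⟩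
def t65 : Ty := ⟨65, [0, 1, 2, 2, 0, 1, 2, 2, 0, 1, 0, 0, -1, 0, 1], [0, 2, -1, -1, -1, -1], 3, 51, 51, -13⟩
def t66 : Ty := ⟨66, [0, 1, 1, 0, 0, 1, 9, 9, 1, 4, 0, 0, -1, 1, 1], [0, 1, -1, -1, -1, -1], 1, 49, 49, -15⟩
def t67 : Ty := ⟨67, [0, 1, 0, 2, 2, 1, 4, 4, 2, 3, 0, 0, 0, 0, 0], [0, 0, 1, 1, 1, 1], 1, 1, 65, -63⟩
def t68 : Ty := ⟨68, [0, 1, 0, 2, 0, 1, 8, 8, 2, 5, 0, 0, 0, 0, 1], [0, 0, 1, 1, 1, 1], 2, 2, 66, -62⟩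
def t69 : Ty := ⟨69, [0, 0, 4, 0, 0, 0, 4, 4, 4, 4, 0, 0, 0, 0, 0], [0, 2, 0, 0, 0, 0], 10, 42, 42, -86⟩
def t70 : Ty := ⟨70, [0, 0, 1, 0, 0, 0, 1, 1, 1, 1, 0, 0, 0, 0, 0], [0, 1, 0, 0, 0, 0], 5, 53, 53, -75⟩
def o0 : List (List ℤ) := [[-1, 4, -1, -1, -1, 0], [-1, 4, 0, -1, -1, -1], [-1, 4, -1, 0, -1, -1], [-1, 4, -1, -1, 0, -1]]
def o1 : List (List ℤ) := [[-1, 3, -1, -1, -1, 0], [-1, 3, 0, -1, -1, -1], [-1, 3, -1, 0, -1, -1], [-1, 3, -1, -1, 0, -1]]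
def o2 : List (List ℤ) := [[-1, 2, -1, -1, -1, 0], [-1, 2, 0, -1, -1, -1], [-1, 2, -1, 0, -1, -1], [-1, 2, -1, -1, 0, -1]]
def o3 : List (List ℤ) := [[-1, 1, -1, -1, -1, 0], [-1, 1, 0, -1, -1, -1], [-1, 1, -1, 0, -1, -1], [-1, 1, -1, -1, 0, -1]]
def o4 : List (List ℤ) := [[-1, 1, -1, -1, 0, 1], [-1, 1, 1, -1, -1, 0], [-1, 1, 0, 1, -1, -1], [-1, 1, -1, 0, 1, -1]]
def o5 : List (List ℤ) := [[-1, 1, -1, -1, 1, 0], [-1, 1, 0, -1, -1, 1], [-1, 1, 1, 0, -1, -1], [-1, 1, -1, 1, 0, -1]]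
def o6 : List (List ℤ) := [[-1, 1, -1, 0, -1, 1], [-1, 1, 1, -1, 0, -1], [-1, 1, -1, 1, -1, 0], [-1, 1, 0, -1, 1, -1]]
def o7 : List (List ℤ) := [[1, 1, -1, -1, -1, 0], [1, 1, 0, -1, -1, -1], [1, 1, -1, 0, -1, -1], [1, 1, -1, -1, 0, -1]]
def o8 : List (List ℤ) := [[-1, 3, -1, -1, 0, 0], [-1, 3, 0, -1, -1, 0], [-1, 3, 0, 0, -1, -1], [-1, 3, -1, 0, 0, -1]]
def o9 : List (List ℤ) := [[-1, 2, -1, -1, 0, 0], [-1, 2, 0, -1, -1, 0], [-1, 2, 0, 0, -1, -1], [-1, 2, -1, 0, 0, -1]]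
def o10 : List (List ℤ) := [[-1, 1, -1, -1, 0, 0], [-1, 1, 0, -1, -1, 0], [-1, 1, 0, 0, -1, -1], [-1, 1, -1, 0, 0, -1]]
def o11 : List (List ℤ) := [[-1, 1, -1, 0, 0, 1], [-1, 1, 1, -1, 0, 0], [-1, 1, 0, 1, -1, 0], [-1, 1, 0, 0, 1, -1]]
def o12 : List (List ℤ) := [[-1, 1, -1, 0, 1, 0], [-1, 1, 0, -1, 0, 1], [-1, 1, 1, 0, -1, 0], [-1, 1, 0, 1, 0, -1]]
def o13 : List (List ℤ) := [[-1, 1, -1, 1, 0, 0], [-1, 1, 0, -1, 1, 0], [-1, 1, 0, 0, -1, 1], [-1, 1, 1, 0, 0, -1]]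
def o14 : List (List ℤ) := [[1, 1, -1, -1, 0, 0], [1, 1, 0, -1, -1, 0], [1, 1, 0, 0, -1, -1], [1, 1, -1, 0, 0, -1]]
def o15 : List (List ℤ) := [[-1, 0, 0, 0, 1, 1], [-1, 0, 1, 0, 0, 1], [-1, 0, 1, 1, 0, 0], [-1, 0, 0, 1, 1, 0]]
def o16 : List (List ℤ) := [[1, 0, -1, 0, 0, 1], [1, 0, 1, -1, 0, 0], [1, 0, 0, 1, -1, 0], [1, 0, 0, 0, 1, -1]]
def o17 : List (List ℤ) := [[1, 0, -1, 0, 1, 0], [1, 0, 0, -1, 0, 1], [1, 0, 1, 0, -1, 0], [1, 0, 0, 1, 0, -1]]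
def o18 : List (List ℤ) := [[1, 0, -1, 1, 0, 0], [1, 0, 0, -1, 1, 0], [1, 0, 0, 0, -1, 1], [1, 0, 1, 0, 0, -1]]
def o19 : List (List ℤ) := [[1, 0, 0, 0, 1, 1], [1, 0, 1, 0, 0, 1], [1, 0, 1, 1, 0, 0], [1, 0, 0, 1, 1, 0]]
def o20 : List (List ℤ) := [[-1, 3, -1, 0, 0, 0], [-1, 3, 0, -1, 0, 0], [-1, 3, 0, 0, -1, 0], [-1, 3, 0, 0, 0, -1]]
def o21 : List (List ℤ) := [[-1, 3, -1, 0, -1, 0], [-1, 3, 0, -1, 0, -1]]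
def o22 : List (List ℤ) := [[-1, 2, -1, 0, 0, 0], [-1, 2, 0, -1, 0, 0], [-1, 2, 0, 0, -1, 0], [-1, 2, 0, 0, 0, -1]]
def o23 : List (List ℤ) := [[-1, 4, -1, -1, -1, -1]]
def o24 : List (List ℤ) := [[-1, 3, -1, -1, -1, -1]]
def o25 : List (List ℤ) := [[-1, 2, -1, 0, -1, 0], [-1, 2, 0, -1, 0, -1]]
def o26 : List (List ℤ) := [[-1, 1, -1, 0, 0, 0], [-1, 1, 0, -1, 0, 0], [-1, 1, 0, 0, -1, 0], [-1, 1, 0, 0, 0, -1]]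
def o27 : List (List ℤ) := [[-1, 1, 0, 0, 0, 1], [-1, 1, 1, 0, 0, 0], [-1, 1, 0, 1, 0, 0], [-1, 1, 0, 0, 1, 0]]
def o28 : List (List ℤ) := [[-1, 2, -1, -1, -1, -1]]
def o29 : List (List ℤ) := [[1, 1, -1, 0, 0, 0], [1, 1, 0, -1, 0, 0], [1, 1, 0, 0, -1, 0], [1, 1, 0, 0, 0, -1]]
def o30 : List (List ℤ) := [[-1, 1, -1, 0, -1, 0], [-1, 1, 0, -1, 0, -1]]
def o31 : List (List ℤ) := [[1, 1, -1, 0, -1, 0], [1, 1, 0, -1, 0, -1]]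
def o32 : List (List ℤ) := [[-1, 0, 0, 1, 0, 1], [-1, 0, 1, 0, 1, 0]]
def o33 : List (List ℤ) := [[1, 0, 0, 0, 0, 1], [1, 0, 1, 0, 0, 0], [1, 0, 0, 1, 0, 0], [1, 0, 0, 0, 1, 0]]
def o34 : List (List ℤ) := [[1, 0, 0, 1, 0, 1], [1, 0, 1, 0, 1, 0]]
def o35 : List (List ℤ) := [[-1, 2, 0, 0, 0, 0]]
def o36 : List (List ℤ) := [[-1, 1, 0, 0, 0, 0]]
def o37 : List (List ℤ) := [[1, 1, 0, 0, 0, 0]]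
def o38 : List (List ℤ) := [[1, 0, 0, 0, 0, 0]]
def o39 : List (List ℤ) := [[0, 1, -2, 0, 0, 0], [0, 1, 0, -2, 0, 0], [0, 1, 0, 0, -2, 0], [0, 1, 0, 0, 0, -2]]
def o40 : List (List ℤ) := [[0, 1, -1, -1, -1, 1], [0, 1, 1, -1, -1, -1], [0, 1, -1, 1, -1, -1], [0, 1, -1, -1, 1, -1]]
def o41 : List (List ℤ) := [[0, 3, -1, -1, -1, 0], [0, 3, 0, -1, -1, -1], [0, 3, -1, 0, -1, -1], [0, 3, -1, -1, 0, -1]]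
def o42 : List (List ℤ) := [[0, 2, -1, -1, -1, 0], [0, 2, 0, -1, -1, -1], [0, 2, -1, 0, -1, -1], [0, 2, -1, -1, 0, -1]]
def o43 : List (List ℤ) := [[0, 1, -1, -1, -1, 0], [0, 1, 0, -1, -1, -1], [0, 1, -1, 0, -1, -1], [0, 1, -1, -1, 0, -1]]
def o44 : List (List ℤ) := [[0, 1, -1, -1, 0, 1], [0, 1, 1, -1, -1, 0], [0, 1, 0, 1, -1, -1], [0, 1, -1, 0, 1, -1]]
def o45 : List (List ℤ) := [[0, 1, -1, -1, 1, 0], [0, 1, 0, -1, -1, 1], [0, 1, 1, 0, -1, -1], [0, 1, -1, 1, 0, -1]]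
def o46 : List (List ℤ) := [[0, 1, -1, 0, -1, 1], [0, 1, 1, -1, 0, -1], [0, 1, -1, 1, -1, 0], [0, 1, 0, -1, 1, -1]]
def o47 : List (List ℤ) := [[0, 0, -1, 0, 1, 1], [0, 0, 1, -1, 0, 1], [0, 0, 1, 1, -1, 0], [0, 0, 0, 1, 1, -1]]
def o48 : List (List ℤ) := [[0, 0, -1, 1, 0, 1], [0, 0, 1, -1, 1, 0], [0, 0, 0, 1, -1, 1], [0, 0, 1, 0, 1, -1]]
def o49 : List (List ℤ) := [[0, 0, -1, 1, 1, 0], [0, 0, 0, -1, 1, 1], [0, 0, 1, 0, -1, 1], [0, 0, 1, 1, 0, -1]]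
def o50 : List (List ℤ) := [[0, 0, 0, 1, 1, 1], [0, 0, 1, 0, 1, 1], [0, 0, 1, 1, 0, 1], [0, 0, 1, 1, 1, 0]]
def o51 : List (List ℤ) := [[0, 3, -1, -1, 0, 0], [0, 3, 0, -1, -1, 0], [0, 3, 0, 0, -1, -1], [0, 3, -1, 0, 0, -1]]
def o52 : List (List ℤ) := [[0, 2, -1, -1, 0, 0], [0, 2, 0, -1, -1, 0], [0, 2, 0, 0, -1, -1], [0, 2, -1, 0, 0, -1]]
def o53 : List (List ℤ) := [[0, 1, -1, -1, 0, 0], [0, 1, 0, -1, -1, 0], [0, 1, 0, 0, -1, -1], [0, 1, -1, 0, 0, -1]]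
def o54 : List (List ℤ) := [[0, 1, -1, 0, 0, 1], [0, 1, 1, -1, 0, 0], [0, 1, 0, 1, -1, 0], [0, 1, 0, 0, 1, -1]]
def o55 : List (List ℤ) := [[0, 1, -1, 0, 1, 0], [0, 1, 0, -1, 0, 1], [0, 1, 1, 0, -1, 0], [0, 1, 0, 1, 0, -1]]
def o56 : List (List ℤ) := [[0, 1, -1, 1, 0, 0], [0, 1, 0, -1, 1, 0], [0, 1, 0, 0, -1, 1], [0, 1, 1, 0, 0, -1]]
def o57 : List (List ℤ) := [[0, 0, 0, 0, 1, 1], [0, 0, 1, 0, 0, 1], [0, 0, 1, 1, 0, 0], [0, 0, 0, 1, 1, 0]]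
def o58 : List (List ℤ) := [[0, 3, -1, 0, -1, 0], [0, 3, 0, -1, 0, -1]]
def o59 : List (List ℤ) := [[0, 2, -1, 0, 0, 0], [0, 2, 0, -1, 0, 0], [0, 2, 0, 0, -1, 0], [0, 2, 0, 0, 0, -1]]
def o60 : List (List ℤ) := [[0, 3, -1, -1, -1, -1]]
def o61 : List (List ℤ) := [[0, 2, -1, 0, -1, 0], [0, 2, 0, -1, 0, -1]]
def o62 : List (List ℤ) := [[0, 1, -1, 0, 0, 0], [0, 1, 0, -1, 0, 0], [0, 1, 0, 0, -1, 0], [0, 1, 0, 0, 0, -1]]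
def o63 : List (List ℤ) := [[0, 1, 0, 0, 0, 1], [0, 1, 1, 0, 0, 0], [0, 1, 0, 1, 0, 0], [0, 1, 0, 0, 1, 0]]
def o64 : List (List ℤ) := [[0, 2, -1, -1, -1, -1]]
def o65 : List (List ℤ) := [[0, 1, -1, 0, -1, 0], [0, 1, 0, -1, 0, -1]]
def o66 : List (List ℤ) := [[0, 1, -1, -1, -1, -1]]
def o67 : List (List ℤ) := [[0, 0, 0, 0, 0, 1], [0, 0, 1, 0, 0, 0], [0, 0, 0, 1, 0, 0], [0, 0, 0, 0, 1, 0]]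
def o68 : List (List ℤ) := [[0, 0, 0, 1, 0, 1], [0, 0, 1, 0, 1, 0]]
def o69 : List (List ℤ) := [[0, 2, 0, 0, 0, 0]]
def o70 : List (List ℤ) := [[0, 1, 0, 0, 0, 0]]

def pr : Prob where
  rot := rot
  α := [1, 5, 1, 1, 1, 1]
  γ := [1, -11, 1, 1, 1, 1]
  tests := [([1, 0, 0, 0, 0, 0], [1, 0, 0, 0, 0, 0]),
    ([0, 0, 1, 0, 0, 0], [0, 0, 1, 0, 0, 0]),
    ([0, 1, 0, 0, 0, 0], [0, 1, 0, 0, 0, 0]),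
    ([0, 0, 1, -1, 0, 0], [0, 0, 1, -1, 0, 0]),
    ([0, 0, 1, 0, -1, 0], [0, 0, 1, 0, -1, 0]),
    ([1, 0, -1, 0, 0, 0], [1, 0, -1, 0, 0, 0]),
    ([0, 1, 1, 1, 1, 1], [0, 1, 1, 1, 1, 1]),
    ([1, 1, 1, 1, 1, 1], [1, 1, 1, 1, 1, 1]),
    ([1, 1, 1, 1, 0, 0], [1, 1, 1, 1, 0, 0]),
    ([0, 1, 1, 1, 1, 0], [0, 1, 1, 1, 1, 0]),
    ([1, 0, 0, 0, 0, 0], [0, 1, 0, 0, 0, 0]),
    ([1, 0, 0, 0, 0, 0], [0, 0, 1, 0, 0, 0]),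
    ([0, 1, 0, 0, 0, 0], [0, 0, 1, 0, 0, 0]),
    ([0, 0, 1, 0, 0, 0], [0, 0, 0, 1, 0, 0]),
    ([0, 0, 1, 0, 0, 0], [0, 0, 0, 0, 1, 0])]
  Γ := [[4, -5, 1, 1, 1, 1], [-5, 21, -5, -5, -5, -5], [1, -5, 5, 1, 1, 1], [1, -5, 1, 5, 1, 1], [1, -5, 1, 1, 5, 1], [1, -5, 1, 1, 1, 5]]
  r0 := [1, 0, 0, 0, 0, 0]
  t := [1, -5, 1, 1, 1, 1]
  P := [(t0, o0), (t1, o1), (t2, o2), (t3, o3), (t4, o4), (t5, o5), (t6, o6), (t7, o7), (t8, o8), (t9, o9), (t10, o10), (t11, o11), (t12, o12), (t13, o13), (t14, o14), (t15, o15), (t16, o16), (t17, o17), (t18, o18), (t19, o19), (t20, o20), (t21, o21), (t22, o22), (t23, o23), (t24, o24), (t25, o25), (t26, o26), (t27, o27), (t28, o28), (t29, o29), (t30, o30), (t31, o31), (t32, o32), (t33, o33), (t34, o34), (t35, o35), (t36,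 o36), (t37, o37), (t38, o38), (t39, o39), (t40, o40), (t41, o41), (t42, o42), (t43, o43), (t44, o44), (t45, o45), (t46, o46), (t47, o47), (t48, o48), (t49, o49), (t50, o50), (t51, o51), (t52, o52), (t53, o53), (t54, o54), (t55, o55), (t56, o56), (t57, o57), (t58, o58), (t59, o59), (t60, o60), (t61, o61), (t62, o62), (t63, o63), (t64, o64), (t65, o65), (t66, o66), (t67, o67), (t68, o68), (t69, o69), (t70, o70)]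

def its : List Item := [.ty t0, .ty t1, .ty t2, .ty t3, .ty t4, .ty t5, .ty t6, .ty t7, .ty t8, .ty t9, .ty t10, .ty t11, .ty t12, .ty t13, .ty t14, .ty t15, .ty t16, .ty t17, .ty t18, .ty t19, .ty t20, .ty t21, .ty t22, .ty t23, .ty t24, .ty t25, .ty t26, .ty t27, .ty t28, .ty t29, .ty t30, .ty t31, .ty t32, .ty t33, .ty t34, .bar [11], .ty t35, .ty t36, .ty t37, .bar [10], .ty t38, .bar [0], .ty t39, .ty t40, .ty t41, .ty t42, .ty t43, .ty t44, .ty t45, .ty t46, .ty t47, .ty t48, .ty t49, .ty t50, .ty t51, .ty t52, .ty t53, .ty t54, .ty t55, .ty t56, .ty t57, .ty t58, .ty t59, .ty t60, .ty t61, .ty t62, .ty t63, .ty t64, .ty t65, .ty t66, .bar [12, 13], .ty t67, .bar [4], .ty t68, .bar [1, 3, 5, 14], .ty t69, .ty t70]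

def leaves : List (List ℕ) := [[70, 70, 62, 62, 53, 36, 35, 30],
  [70, 70, 67, 62, 62, 62, 36, 36, 36, 28],
  [65, 61, 55, 36, 36, 36, 28],
  [67, 62, 62, 62, 38, 36, 35, 28],
  [70, 70, 65, 64, 55, 38, 36, 25],
  [70, 70, 70, 70, 67, 62, 53, 38, 36, 25],
  [69, 67, 62, 53, 38, 36, 25],
  [67, 62, 53, 37, 35, 25],
  [70, 70, 67, 67, 62, 62, 38, 36, 36, 24],
  [70, 70, 65, 65, 55, 38, 36, 36, 24],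
  [70, 70, 56, 53, 38, 36, 36, 24],
  [70, 70, 54, 53, 38, 36, 36, 24],
  [70, 70, 70, 70, 70, 70, 40, 38, 36, 36, 24],
  [70, 70, 69, 40, 38, 36, 36, 24],
  [70, 70, 70, 70, 70, 70, 39, 38, 36, 36, 24],
  [70, 70, 69, 39, 38, 36, 36, 24],
  [67, 67, 62, 62, 38, 38, 35, 24],
  [65, 65, 55, 38, 38, 35, 24],
  [56, 53, 38, 38, 35, 24],
  [54, 53, 38, 38, 35, 24],
  [70, 70, 70, 70, 40, 38, 38, 35, 24],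
  [69, 40, 38, 38, 35, 24],
  [70, 70, 70, 70, 39, 38, 38, 35, 24],
  [69, 39, 38, 38, 35, 24],
  [70, 70, 40, 37, 36, 35, 24],
  [70, 70, 39, 37, 36, 35, 24],
  [67, 67, 67, 62, 38, 38, 36, 23]]

def mx : List (List ℤ) := [[17, 5, 1, 1, 1, 1], [5, 9, 5, 5, 5, 5], [1, 5, 17, 1, 1, 1], [1, 5, 1, 17, 1, 1], [1, 5, 1, 1, 17, 1], [1, 5, 1, 1, 1, 17]]

def del : List ℤ := [101, 501, 101, 101, 101, 101]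

theorem h_wf : wf 10 pr.tests.length its = true := by decide +kernel

theorem h_chk : chk 10 leaves 300 its (pr.tests.map fun cd => bil pr.Γ cd.1 cd.2) [] = true := by
  decide +kernel

theorem h_id : (tysOf its).map Ty.id = List.range (tysOf its).length := by decide +kernel

theorem h_P : tysOf its = pr.P.map Prod.fst := rfl

theorem h_ok : pr.P.all (fun e => pr.tyOK e.1 e.2) = true := by decide +kernel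

theorem h_nd : pr.all.Nodup := by decide +kernel

theorem h_all : ∀ r ∈ pr.all, dot r r ≠ 0 := by decide +kernel

def inner (y0 y1 y2 y3 y4 s q : ℤ) : Bool := decide (36 < 9 * q - s * s) ||
  ([-4, -3, -2, -1, 0, 1, 2, 3, 4] : List ℤ).all fun w =>
    let a := s + 5 * w
    let m := a * a + 16 * (q - w * w)
    decide (64 * m < m * m + (16 * y0 + a) * (16 * y0 + a)) ||
    decide (dot del [y0, w, y1, y2, y3, y4] < 0) ||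
    decide (dot pr.γ [y0, w, y1, y2, y3, y4] % 64 = 0) || pr.all.elem [y0, w, y1, y2, y3, y4]

def outer : List ℤ → Bool
  | [y0, y1, y2, y3, y4] => inner y0 y1 y2 y3 y4 (y0 + y1 + y2 + y3 + y4)
    (y0 * y0 + y1 * y1 + y2 * y2 + y3 * y3 + y4 * y4)
  | _ => false

theorem outer_realize : True := by
  have := @outer.eq_def; have := @outer.eq_1; have := @outer.eq_2; trivial

theorem h_box : boxAll (List.replicate 5 [-2, -1, 0, 1, 2]) outer = true := by decide +kernel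

def c0 : Cert := .S 6 0 (.S 6 41 (.R [0, 1, 5]) (.S 4 0 (.S 6 105 (.R [1, 1, 4]) (.R [1, 0, 0])) (.R [1, 1, 4]))) (.R [3, 1, 2])

theorem l0 : leafOK pr.r0 pr.t (tysOf its) [70, 70, 62, 62, 53, 36, 35, 30] c0 = true := by decide +kernel

def c1_1 : Cert := .S 4 0 (.S 5 0 (.S 6 0 (.S 7 0 (.S 8 0 (.L [-1, 0, 0]) (.R [1, 0, -1])) (.R [1, 0, -1])) (.R [1, 0, -1])) (.S 6 0 (.S 7 0 (.S 8 0 (.L [-1, 0, 0]) (.R [1, 0, 0])) (.R [1, 0, 0])) (.R [1, 0, 0]))) (.S 5 0 (.S 6 0 (.S 7 0 (.S 8 0 (.L [-1, 0, 0]) (.R [1, 0, 0])) (.R [1, 0, 0])) (.R [1, 0, 0])) (.S 6 0 (.S 7 0 (.S 8 0 (.L [-1, 0, 0]) (.R [1, 0, 0])) (.R [1, 0, 0])) (.R [1, 0, 0])))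
def c1_2 : Cert := .S 9 0 (.S 9 37 (.R [-1, -1, -4]) (.S 3 0 (.S 4 0 (.S 5 0 (.R [1, 0, -1]) (.S 6 0 (.S 7 0 (.S 8 0 (.L [-1, 0, 0]) (.R [1, 0, -1])) (.R [1, 0, -1])) (.R [1, 0, -1]))) (.S 5 0 (.S 6 0 (.S 7 0 (.S 8 0 (.L [-1, 0, 0]) (.R [1, 0, -1])) (.R [1, 0, -1])) (.R [1, 0, -1])) (.S 6 0 (.S 7 0 (.S 8 0 (.L [-1, 0, 0]) (.R [1, 0, 0])) (.R [1, 0, 0])) (.R [1, 0, 0])))) (c1_1))) (.R [1, 1, 4])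
def c1 : Cert := c1_2

theorem l1 : leafOK pr.r0 pr.t (tysOf its) [70, 70, 67, 62, 62, 62, 36, 36, 36, 28] c1 = true := by decide +kernel

def c2_1 : Cert := .S 0 0 (.S 1 (-152) (.S 6 37 (.S 0 51 (.L [0, 0, 1]) (.S 2 0 (.S 2 53 (.R [1, 1, 4]) (.R [-1, -1, -4])) (.R [0, -1, -5]))) (.S 2 0 (.S 2 53 (.R [5, 1, 0]) (.S 3 0 (.S 4 0 (.S 5 0 (.L [-1, 0, 0]) (.R [5, 1, 0])) (.R [5, 1, 0])) (.R [5, 1, 0]))) (.L [-1, -1, -2]))) (.S 0 51 (.S 6 37 (.S 2 0 (.S 2 53 (.R [1, 1, 4]) (.R [0, -1, -5])) (.R [0, -1, -5])) (.R [0, 0, 1])) (.L [0, 0, -1]))) (.S 6 37 (.L [0, 0, 1]) (.S 1 (-152) (.S 6 101 (.L [0, 0, 1]) (.S 0 (-77) (.S 2 0 (.R [1, 1, 4]) (.L [-1, -1, -1])) (.R [1, 1, 4]))) (.R [0, 0, 1])))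
def c2 : Cert := .S 1 0 (.S 6 0 (.S 1 40 (.R [1, 0, -1]) (.S 0 0 (.R [1, 0, -1]) (.S 0 (-141) (.R [1, 0, -1]) (.L [0, 0, -1])))) (.R [1, 0, 0])) (.S 6 0 (c2_1) (.R [1, 0, 0]))

theorem l2 : leafOK pr.r0 pr.t (tysOf its) [65, 61, 55, 36, 36, 36, 28] c2 = true := by decide +kernel

def c3 : Cert := .S 6 0 (.S 6 41 (.R [0, 1, 5]) (.S 7 0 (.S 6 105 (.S 7 37 (.R [-1, -1, -4]) (.R [1, 1, 4])) (.S 7 37 (.R [0, -1, -5]) (.R [1, 1, 4]))) (.R [1, 1, 4]))) (.R [1, 0, -1])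

theorem l3 : leafOK pr.r0 pr.t (tysOf its) [67, 62, 62, 62, 38, 36, 35, 28] c3 = true := by decide +kernel

def c4_1 : Cert := .S 6 (-140) (.S 3 294 (.S 2 (-397) (.L [0, 0, 1]) (.S 2 (-269) (.S 6 (-204) (.R [-1, 0, 1]) (.S 3 230 (.S 2 (-333) (.L [0, 0, 1]) (.R [-1, 0, 1])) (.R [-1, 0, 1]))) (.R [-1, 0, 1]))) (.R [-1, 0, 1])) (.S 3 294 (.R [1, 0, -1]) (.S 2 (-397) (.S 3 486 (.S 2 (-589) (.L [0, 0, 1]) (.S 5 0 (.R [1, 0, -1]) (.L [-1, 0, 0]))) (.S 2 (-589) (.S 3 806 (.S 2 (-909) (.L [0, 0, 1]) (.S 5 0 (.L [1, 0, 0]) (.L [-1, 0, 0]))) (.S 2 (-909) (.S 3 1254 (.S 2 (-1357) (.L [0, 0, 1]) (.S 5 0 (.L [1, 0, 0]) (.R [-1, 0, 1]))) (.R [-1, 0, 1])) (.L [0, 0, -1]))) (.L [0, 0, -1]))) (.L [0, 0, -1])))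
def c4_2 : Cert := .S 6 0 (.S 3 102 (.S 2 (-205) (.L [0, 0, 1]) (.S 6 52 (.R [-1, 0, 1]) (.S 6 116 (.R [-1, 0, 1]) (.S 6 180 (.R [-1, 0, 1]) (.S 6 308 (.R [-1, 0, 1]) (.S 6 500 (.S 5 0 (.S 5 577 (.S 5 385 (.L [-1, 0, 0]) (.S 6 372 (.R [-1, 0, 1]) (.S 5 449 (.L [-1, 0, 0]) (.S 6 436 (.R [-1, 0, 1]) (.R [1, 0, -1]))))) (.L [1, 0, 0])) (.L [-1, 0, 0])) (.S 5 0 (.R [1, 0, -1]) (.L [-1, 0, 0])))))))) (.R [-1, 0, 1])) (.S 3 102 (.R [1, 0, -1]) (.S 2 (-205) (.S 3 166 (.S 2 (-269) (.L [0, 0, 1]) (.S 6 (-140) (.S 6 (-204) (.S 6 (-332) (.R [-1, 0, 1]) (.S 5 0 (.L [1, 0, 0]) (.R [-1, 0, 1]))) (.R [1, 0, -1])) (.R [1, 0, -1]))) (c4_1)) (.L [0, 0, -1])))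
def c4_3 : Cert := .S 3 0 (.S 3 38 (.S 2 0 (.R [1, 0, -1]) (.S 2 (-141) (.R [1, 0, -1]) (.S 2 (-77) (.R [1, 0, -1]) (.L [0, 0, -1])))) (.S 2 0 (.L [0, 0, -1]) (.S 2 (-141) (c4_2) (.L [0, 0, -1])))) (.S 3 (-90) (.S 2 0 (.S 6 0 (.R [-1, 0, 1]) (.S 3 (-154) (.S 2 51 (.L [0, 0, 1]) (.S 3 (-218) (.S 2 115 (.L [0, 0, 1]) (.S 6 (-140) (.R [-1, 0, 1]) (.S 3 (-346) (.S 2 243 (.L [0, 0, 1]) (.R [-1, 0, 1])) (.R [-1, 0, 1])))) (.R [-1, 0, 1]))) (.R [-1, 0, 1]))) (.R [-1, 0, 1])) (.R [-1, 0, 1]))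
def c4_4 : Cert := .S 7 39 (c4_3) (.S 3 0 (.S 7 103 (.S 3 38 (.R [1, 0, -1]) (.S 2 0 (.R [1, 0, -1]) (.S 2 (-205) (.R [1, 0, -1]) (.L [0, 0, -1])))) (.R [1, 0, 0])) (.S 3 (-90) (.S 7 103 (.S 2 0 (.S 3 (-154) (.S 6 0 (.S 6 52 (.S 3 (-218) (.R [1, 0, -1]) (.S 2 51 (.R [1, 0, -1]) (.L [0, 0, -1]))) (.R [1, 0, -1])) (.R [1, 0, -1])) (.L [0, 0, -1])) (.S 2 (-77) (.L [0, 0, 1]) (.R [0, 0, 1]))) (.R [1, 0, 0])) (.R [0, 1, 5])))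
def c4 : Cert := .S 7 0 (c4_4) (.R [3, 1, 2])

theorem l4 : leafOK pr.r0 pr.t (tysOf its) [70, 70, 65, 64, 55, 38, 36, 25] c4 = true := by decide +kernel

def c5_1 : Cert := .S 6 307 (.S 4 0 (.S 4 705 (.S 4 513 (.L [0, 0, -1]) (.R [1, 0, -1])) (.R [1, 0, -1])) (.R [1, 0, -1])) (.S 6 499 (.S 4 0 (.S 4 1089 (.S 4 769 (.L [0, 0, -1]) (.S 7 0 (.S 7 257 (.R [1, 0, -1]) (.L [1, 0, 0])) (.L [-1, 0, 0]))) (.L [0, 0, 1])) (.L [0, 0, -1])) (.S 6 819 (.S 4 0 (.S 4 1729 (.S 4 1153 (.L [0, 0, -1]) (.S 7 0 (.S 7 257 (.S 7 193 (.L [-1, 0, 0]) (.R [-1, 0, 1])) (.R [-1, 0, 1])) (.R [-1, 0, 1]))) (.L [0, 0, 1])) (.L [0, 0, -1])) (.S 4 0 (.R [-1, 0, 1]) (.L [0, 0, -1]))))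
def c5_2 : Cert := .S 4 2689 (.L [0, 0, -1]) (.S 8 244 (.S 7 321 (.S 6 1971 (.S 4 4033 (.S 6 1587 (.S 4 3265 (.S 6 1395 (.R [1, 0, -1]) (.S 4 2945 (.L [0, 0, -1]) (.S 6 1459 (.R [1, 0, -1]) (.S 4 3073 (.L [0, 0, -1]) (.S 0 0 (.S 1 0 (.S 2 0 (.S 3 0 (.L [0, 1, 0]) (.R [-5, -1, 0])) (.R [-5, -1, 0])) (.R [-5, -1, 0])) (.R [-5, -1, 0])))))) (.L [0, 0, 1])) (.R [-1, 0, 1])) (.L [0, 0, 1])) (.R [-1, 0, 1])) (.L [1, 0, 0])) (.R [1, 0, -1]))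
def c5_3 : Cert := .S 6 499 (.S 4 0 (.S 4 1089 (.S 4 769 (.L [0, 0, -1]) (.R [1, 0, -1])) (.R [1, 0, -1])) (.R [1, 0, -1])) (.S 6 819 (.S 4 0 (.S 4 1729 (.S 4 1153 (.L [0, 0, -1]) (.S 7 0 (.R [1, 0, -1]) (.L [-1, 0, 0]))) (.L [0, 0, 1])) (.L [0, 0, -1])) (.S 4 0 (.S 4 1793 (.L [0, 0, -1]) (.S 7 0 (.S 7 385 (.S 7 257 (.L [-1, 0, 0]) (.S 6 1267 (.R [1, 0, -1]) (c5_2))) (.L [1, 0, 0])) (.L [-1, 0, 0]))) (.L [0, 0, -1])))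
def c5_4 : Cert := .S 8 180 (c5_1) (.S 6 307 (.R [1, 0, -1]) (.S 8 308 (c5_3) (.S 6 499 (.R [1, 0, -1]) (.S 8 500 (.S 6 819 (.S 4 0 (.S 4 1729 (.S 4 1153 (.L [0, 0, -1]) (.R [1, 0, -1])) (.R [1, 0, -1])) (.R [1, 0, -1])) (.S 4 0 (.S 4 1793 (.L [0, 0, -1]) (.S 7 0 (.R [1, 0, -1]) (.L [-1, 0, 0]))) (.L [0, 0, -1]))) (.S 6 819 (.R [1, 0, -1]) (.S 4 0 (.S 4 1793 (.L [0, 0, -1]) (.R [1, 0, -1])) (.R [1, 0, -1])))))))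
def c5_5 : Cert := .S 6 115 (.R [1, 0, -1]) (.S 8 116 (.S 6 179 (.S 4 0 (.S 4 449 (.S 4 385 (.L [0, 0, -1]) (.S 7 0 (.R [1, 0, -1]) (.L [-1, 0, 0]))) (.L [0, 0, 1])) (.L [0, 0, -1])) (.S 6 307 (.S 4 0 (.S 4 705 (.S 4 513 (.L [0, 0, -1]) (.S 7 0 (.S 7 193 (.S 7 129 (.L [-1, 0, 0]) (.R [-1, 0, 1])) (.R [-1, 0, 1])) (.R [-1, 0, 1]))) (.L [0, 0, 1])) (.L [0, 0, -1])) (.R [-1, 0, 1]))) (.S 6 179 (.R [1, 0, -1]) (c5_4)))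
def c5_6 : Cert := .S 8 308 (.S 4 0 (.S 4 385 (.R [-1, 0, 1]) (.L [0, 0, 1])) (.L [0, 0, -1])) (.S 8 500 (.S 4 0 (.S 4 385 (.S 4 321 (.L [0, 0, -1]) (.S 7 0 (.S 7 577 (.S 7 385 (.L [-1, 0, 0]) (.S 8 372 (.R [-1, 0, 1]) (.R [1, 0, -1]))) (.L [1, 0, 0])) (.L [-1, 0, 0]))) (.L [0, 0, 1])) (.L [0, 0, -1])) (.S 4 0 (.S 4 385 (.S 4 321 (.L [0, 0, -1]) (.S 7 0 (.R [1, 0, -1]) (.L [-1, 0, 0]))) (.L [0, 0, 1])) (.L [0, 0, -1])))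
def c5_7 : Cert := .S 6 115 (.S 5 116 (.S 8 116 (.R [-1, 0, 1]) (.S 8 180 (.R [-1, 0, 1]) (c5_6))) (.S 8 116 (.R [-1, 0, 1]) (.S 5 180 (.S 8 180 (.R [-1, 0, 1]) (.S 8 308 (.R [-1, 0, 1]) (.S 8 500 (.R [-1, 0, 1]) (.S 4 0 (.S 4 449 (.S 4 385 (.L [0, 0, -1]) (.S 7 0 (.S 7 577 (.L [-1, 0, 0]) (.R [-1, 0, 1])) (.R [-1, 0, 1]))) (.L [0, 0, 1])) (.L [0, 0, -1]))))) (.R [-1, 0, 1])))) (.S 5 116 (.S 8 116 (.R [-1, 0, 1]) (.S 6 179 (.S 8 180 (.R [-1, 0, 1]) (.S 8 308 (.R [-1, 0, 1]) (.S 8 500 (.R [-1, 0, 1]) (.S 4 0 (.R [-1, 0, 1]) (.L [0, 0, -1]))))) (.R [-1, 0, 1]))) (.R [-1, 0, 1]))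
def c5_8 : Cert := .S 8 (-524) (.S 4 0 (.S 4 449 (.S 4 385 (.L [0, 0, -1]) (.S 7 0 (.L [1, 0, 0]) (.S 7 (-447) (.S 8 (-844) (.S 7 (-767) (.S 8 (-1292) (.R [-1, 0, 1]) (.S 7 (-1215) (.L [-1, 0, 0]) (.S 8 (-1036) (.S 7 (-959) (.S 8 (-1164) (.R [-1, 0, 1]) (.R [1, 0, -1])) (.L [1, 0, 0])) (.R [1, 0, -1])))) (.L [1, 0, 0])) (.R [1, 0, -1])) (.L [1, 0, 0])))) (.L [0, 0, 1])) (.L [0, 0, -1])) (.S 4 0 (.S 4 449 (.S 4 385 (.L [0, 0, -1]) (.R [1, 0, -1])) (.R [1, 0, -1])) (.R [1, 0, -1]))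
def c5_9 : Cert := .S 8 (-524) (.S 4 0 (.S 4 577 (.S 4 449 (.L [0, 0, -1]) (.S 7 0 (.L [1, 0, 0]) (.R [-1, 0, 1]))) (.L [0, 0, 1])) (.L [0, 0, -1])) (.S 4 0 (.S 4 577 (.S 4 449 (.L [0, 0, -1]) (.S 7 0 (.L [1, 0, 0]) (.S 7 (-447) (.L [-1, 0, 0]) (.S 7 (-255) (.S 5 244 (.S 4 513 (.S 8 (-396) (.S 7 (-319) (.S 8 (-460) (.R [-1, 0, 1]) (.R [1, 0, -1])) (.L [1, 0, 0])) (.R [1, 0, -1])) (.L [0, 0, 1])) (.R [-1, 0, 1])) (.L [1, 0, 0]))))) (.L [0, 0, 1])) (.L [0, 0, -1]))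
def c5_10 : Cert := .S 5 500 (.S 4 0 (.S 4 769 (.S 4 577 (.L [0, 0, -1]) (.S 7 0 (.L [1, 0, 0]) (.S 7 (-255) (.L [-1, 0, 0]) (.S 7 (-127) (.S 8 (-268) (.R [-1, 0, 1]) (.R [1, 0, -1])) (.L [1, 0, 0]))))) (.L [0, 0, 1])) (.L [0, 0, -1])) (.S 4 0 (.S 4 769 (.L [0, 0, -1]) (.S 7 0 (.L [1, 0, 0]) (.S 7 (-255) (.L [-1, 0, 0]) (.S 7 (-127) (.S 5 820 (.S 4 1089 (.S 8 (-268) (.R [-1, 0, 1]) (.S 7 (-191) (.L [-1, 0, 0]) (.R [-1, 0, 1]))) (.L [0, 0, 1])) (.R [-1, 0, 1])) (.R [-1, 0, 1]))))) (.L [0, 0, -1]))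
def c5_11 : Cert := .S 8 (-332) (.S 5 308 (c5_9) (.S 8 (-524) (.S 5 500 (.S 4 0 (.R [-1, 0, 1]) (.L [0, 0, -1])) (.R [-1, 0, 1])) (.S 5 500 (.S 4 0 (.S 4 769 (.S 4 577 (.L [0, 0, -1]) (.S 7 0 (.L [1, 0, 0]) (.R [-1, 0, 1]))) (.L [0, 0, 1])) (.L [0, 0, -1])) (.S 4 0 (.R [-1, 0, 1]) (.L [0, 0, -1]))))) (.S 5 308 (.S 4 0 (.S 4 577 (.S 4 449 (.L [0, 0, -1]) (.S 7 0 (.R [1, 0, -1]) (.S 7 (-255) (.R [1, 0, -1]) (.S 7 (-127) (.R [1, 0, -1]) (.L [1, 0, 0]))))) (.L [0, 0, 1])) (.L [0, 0, -1])) (c5_10))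
def c5_12 : Cert := .S 5 6836 (.R [1, 0, -1]) (.S 4 7105 (.L [0, 0, -1]) (.S 5 10292 (.S 4 10561 (.S 0 0 (.S 1 0 (.S 2 0 (.S 3 0 (.L [0, 1, 0]) (.R [-5, -1, 0])) (.R [-5, -1, 0])) (.R [-5, -1, 0])) (.R [-5, -1, 0])) (.L [0, 0, 1])) (.S 4 10561 (.R [-1, 0, 1]) (.S 5 15476 (.S 4 15745 (.S 0 0 (.S 1 0 (.S 2 0 (.S 3 0 (.L [0, 1, 0]) (.R [-5, -1, 0])) (.R [-5, -1, 0])) (.R [-5, -1, 0])) (.R [-5, -1, 0])) (.L [0, 0, 1])) (.R [-1, 0, 1])))))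
def c5_13 : Cert := .S 5 308 (.R [1, 0, -1]) (.S 5 500 (.R [1, 0, -1]) (.S 4 0 (.S 4 769 (.L [0, 0, -1]) (.S 7 0 (.R [1, 0, -1]) (.S 7 (-127) (.R [1, 0, -1]) (.S 5 820 (.R [1, 0, -1]) (.S 5 1268 (.R [1, 0, -1]) (.S 4 1537 (.L [0, 0, -1]) (.S 5 1972 (.R [1, 0, -1]) (.S 4 2241 (.L [0, 0, -1]) (.S 5 2996 (.R [1, 0, -1]) (.S 4 3265 (.L [0, 0, -1]) (.S 5 4532 (.R [1, 0, -1]) (.S 4 4801 (.L [0, 0, -1]) (c5_12))))))))))))) (.L [0, 0, -1])))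
def c5_14 : Cert := .S 8 (-524) (.S 4 0 (.S 4 513 (.S 4 449 (.L [0, 0, -1]) (.S 7 0 (.L [1, 0, 0]) (.S 7 (-447) (.S 8 (-844) (.R [-1, 0, 1]) (.S 7 (-767) (.L [-1, 0, 0]) (.S 8 (-652) (.S 7 (-575) (.S 8 (-716) (.S 7 (-639) (.S 8 (-780) (.R [-1, 0, 1]) (.R [1, 0, -1])) (.L [1, 0, 0])) (.R [1, 0, -1])) (.L [1, 0, 0])) (.R [1, 0, -1])))) (.L [1, 0, 0])))) (.L [0, 0, 1])) (.L [0, 0, -1])) (.S 4 0 (.S 4 513 (.S 4 449 (.L [0, 0, -1]) (.S 7 0 (.R [1, 0, -1]) (.S 7 (-447) (.R [1, 0, -1]) (.S 7 (-255) (.R [1, 0, -1]) (.L [1, 0, 0]))))) (.L [0, 0, 1])) (.R [1, 0, -1]))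
def c5_15 : Cert := .S 6 499 (.S 4 0 (.S 4 1153 (.S 4 833 (.L [0, 0, -1]) (.S 7 0 (.L [1, 0, 0]) (.S 7 (-255) (.L [-1, 0, 0]) (.S 7 (-127) (.S 8 (-268) (.R [-1, 0, 1]) (.S 7 (-191) (.L [-1, 0, 0]) (.R [-1, 0, 1]))) (.R [-1, 0, 1]))))) (.L [0, 0, 1])) (.L [0, 0, -1])) (.S 6 819 (.S 4 0 (.S 4 1793 (.S 4 1217 (.L [0, 0, -1]) (.S 7 0 (.L [1, 0, 0]) (.R [-1, 0, 1]))) (.L [0, 0, 1])) (.L [0, 0, -1])) (.S 4 0 (.R [-1, 0, 1]) (.L [0, 0, -1])))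
def c5_16 : Cert := .S 8 (-332) (.S 6 307 (.S 8 (-524) (.S 4 0 (.S 4 769 (.S 4 577 (.R [-1, 0, 1]) (.S 7 0 (.L [1, 0, 0]) (.R [-1, 0, 1]))) (.L [0, 0, 1])) (.L [0, 0, -1])) (.S 4 0 (.S 4 769 (.S 4 577 (.L [0, 0, -1]) (.S 7 0 (.L [1, 0, 0]) (.S 7 (-447) (.L [-1, 0, 0]) (.R [-1, 0, 1])))) (.L [0, 0, 1])) (.L [0, 0, -1]))) (.S 6 499 (.S 8 (-524) (.R [-1, 0, 1]) (.S 4 0 (.R [-1, 0, 1]) (.L [0, 0, -1]))) (.R [-1, 0, 1]))) (.S 6 307 (.S 4 0 (.S 4 769 (.S 4 577 (.L [0, 0, -1]) (.S 7 0 (.L [1, 0, 0]) (.S 7 (-255) (.L [-1, 0, 0]) (.S 7 (-127) (.S 8 (-268) (.S 7 (-191) (.S 6 243 (.R [1, 0, -1]) (.R [-1, 0, 1])) (.L [1, 0, 0])) (.R [1, 0, -1])) (.L [1, 0, 0]))))) (.L [0, 0, 1])) (.L [0, 0, -1])) (c5_15))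
def c5_17 : Cert := .S 8 (-204) (.S 6 179 (.S 8 (-332) (c5_14) (.R [1, 0, -1])) (c5_16)) (.S 6 179 (.R [1, 0, -1]) (.S 6 307 (.R [1, 0, -1]) (.S 6 499 (.R [1, 0, -1]) (.S 6 819 (.S 4 0 (.S 4 1793 (.S 4 1217 (.L [0, 0, -1]) (.R [1, 0, -1])) (.R [1, 0, -1])) (.R [1, 0, -1])) (.S 4 0 (.S 4 1857 (.L [0, 0, -1]) (.S 7 0 (.L [1, 0, 0]) (.S 7 (-127) (.L [-1, 0, 0]) (.S 6 1267 (.S 4 2689 (.R [-1, 0, 1]) (.L [0, 0, 1])) (.R [-1, 0, 1]))))) (.L [0, 0, -1]))))))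
def c5_18 : Cert := .S 5 180 (.S 8 (-332) (.S 8 (-524) (.R [-1, 0, 1]) (.S 4 0 (.R [-1, 0, 1]) (.L [0, 0, -1]))) (.S 4 0 (.S 4 577 (.S 4 513 (.L [0, 0, -1]) (.S 7 0 (.L [1, 0, 0]) (.S 7 (-255) (.L [-1, 0, 0]) (.S 7 (-127) (.S 8 (-268) (.R [-1, 0, 1]) (.R [1, 0, -1])) (.R [-1, 0, 1]))))) (.L [0, 0, 1])) (.L [0, 0, -1]))) (.S 8 (-332) (.R [-1, 0, 1]) (.S 5 308 (.S 4 0 (.S 4 705 (.S 4 577 (.L [0, 0, -1]) (.S 7 0 (.L [1, 0, 0]) (.R [-1, 0, 1]))) (.L [0, 0, 1])) (.L [0, 0, -1])) (.R [-1, 0, 1])))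
def c5_19 : Cert := .S 5 308 (.S 4 0 (.S 4 705 (.S 4 577 (.L [0, 0, -1]) (.S 7 0 (.R [1, 0, -1]) (.S 7 (-127) (.R [1, 0, -1]) (.S 5 244 (.R [1, 0, -1]) (.R [-1, 0, 1]))))) (.L [0, 0, 1])) (.L [0, 0, -1])) (.S 5 500 (.S 4 0 (.S 4 897 (.S 4 705 (.L [0, 0, -1]) (.S 7 0 (.L [1, 0, 0]) (.S 7 (-127) (.L [-1, 0, 0]) (.R [-1, 0, 1])))) (.L [0, 0, 1])) (.L [0, 0, -1])) (.S 4 0 (.S 4 897 (.L [0, 0, -1]) (.S 7 0 (.L [1, 0, 0]) (.R [-1, 0, 1]))) (.L [0, 0, -1])))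
def c5_20 : Cert := .S 5 180 (.S 6 307 (.S 4 0 (.S 4 833 (.S 4 641 (.L [0, 0, -1]) (.S 7 0 (.R [1, 0, -1]) (.S 7 (-127) (.L [-1, 0, 0]) (.S 6 243 (.R [1, 0, -1]) (.R [-1, 0, 1]))))) (.L [0, 0, 1])) (.L [0, 0, -1])) (.S 6 499 (.S 4 0 (.S 4 1217 (.S 4 897 (.L [0, 0, -1]) (.S 7 0 (.L [1, 0, 0]) (.R [-1, 0, 1]))) (.L [0, 0, 1])) (.L [0, 0, -1])) (.S 6 819 (.S 4 0 (.R [-1, 0, 1]) (.L [0, 0, -1])) (.R [-1, 0, 1])))) (.S 6 307 (.S 5 308 (.S 4 0 (.S 4 961 (.S 4 705 (.L [0, 0, -1]) (.S 7 0 (.L [1, 0, 0]) (.R [-1, 0, 1]))) (.L [0, 0, 1])) (.L [0, 0, -1])) (.S 5 500 (.S 4 0 (.R [-1, 0, 1]) (.L [0, 0, -1])) (.R [-1, 0, 1]))) (.S 5 308 (.S 6 499 (.S 4 0 (.R [-1, 0, 1]) (.L [0, 0, -1])) (.R [-1, 0, 1])) (.R [-1, 0, 1])))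
def c5_21 : Cert := .S 6 115 (.S 5 116 (.R [1, 0, -1]) (.S 8 (-204) (.S 5 180 (.S 8 (-332) (c5_8) (.R [1, 0, -1])) (c5_11)) (.S 5 180 (.R [1, 0, -1]) (c5_13)))) (.S 5 116 (c5_17) (.S 8 (-204) (.S 6 179 (c5_18) (.S 5 180 (.S 8 (-332) (.R [-1, 0, 1]) (.S 6 307 (.S 4 0 (.S 4 833 (.R [-1, 0, 1]) (.L [0, 0, 1])) (.L [0, 0, -1])) (.R [-1, 0, 1]))) (.R [-1, 0, 1]))) (.S 6 179 (.S 5 180 (.R [1, 0, -1]) (c5_19)) (c5_20))))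
def c5_22 : Cert := .S 5 500 (.S 6 819 (.S 4 0 (.S 4 2177 (.S 4 1473 (.L [0, 0, -1]) (.S 7 0 (.R [1, 0, -1]) (.L [-1, 0, 0]))) (.L [0, 0, 1])) (.L [0, 0, -1])) (.S 4 0 (.S 4 2113 (.L [0, 0, -1]) (.S 7 0 (.L [1, 0, 0]) (.L [-1, 0, 0]))) (.L [0, 0, -1]))) (.S 6 819 (.S 4 0 (.S 4 1665 (.L [0, 0, -1]) (.S 7 0 (.L [1, 0, 0]) (.L [-1, 0, 0]))) (.L [0, 0, -1])) (.S 4 0 (.S 4 2305 (.L [0, 0, -1]) (.S 7 0 (.L [1, 0, 0]) (.L [-1, 0, 0]))) (.L [0, 0, -1])))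
def c5_23 : Cert := .S 5 308 (.S 6 499 (.R [1, 0, -1]) (.S 6 819 (.S 4 0 (.S 4 1985 (.S 4 1345 (.L [0, 0, -1]) (.R [1, 0, -1])) (.R [1, 0, -1])) (.R [1, 0, -1])) (.S 4 0 (.S 4 1985 (.L [0, 0, -1]) (.S 7 0 (.R [1, 0, -1]) (.L [-1, 0, 0]))) (.L [0, 0, -1])))) (.S 6 499 (.S 5 500 (.S 4 0 (.S 4 1537 (.S 4 1089 (.L [0, 0, -1]) (.R [1, 0, -1])) (.R [1, 0, -1])) (.R [1, 0, -1])) (.S 4 0 (.S 4 1281 (.L [0, 0, -1]) (.S 7 0 (.L [1, 0, 0]) (.L [-1, 0, 0]))) (.L [0, 0, -1]))) (c5_22))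
def c5_24 : Cert := .S 8 0 (.S 6 51 (.R [0, -1, -5]) (.S 5 52 (.S 8 52 (.R [-1, 0, 1]) (c5_5)) (.S 8 52 (.R [-1, 0, 1]) (c5_7)))) (.S 6 51 (.R [1, 0, -1]) (.S 5 52 (.R [1, 0, -1]) (.S 8 (-140) (c5_21) (.S 6 115 (.R [1, 0, -1]) (.S 5 116 (.R [1, 0, -1]) (.S 6 179 (.R [1, 0, -1]) (.S 5 180 (.R [1, 0, -1]) (.S 6 307 (.S 5 308 (.R [1, 0, -1]) (.S 5 500 (.R [1, 0, -1]) (.S 4 0 (.S 4 1025 (.L [0, 0, -1]) (.S 7 0 (.R [1, 0, -1]) (.L [-1, 0, 0]))) (.L [0, 0, -1])))) (c5_23)))))))))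
def c5_25 : Cert := .S 8 (-204) (.S 5 (-332) (.S 8 (-332) (.R [-1, 0, 1]) (.S 5 (-524) (.S 4 0 (.R [-1, 0, 1]) (.S 4 (-255) (.R [-1, 0, 1]) (.L [0, 0, 1]))) (.R [-1, 0, 1]))) (.R [-1, 0, 1])) (.S 5 (-332) (.S 5 (-524) (.S 4 0 (.L [0, 0, 1]) (.S 4 (-255) (.S 7 0 (.L [1, 0, 0]) (.S 7 (-127) (.L [-1, 0, 0]) (.S 5 (-844) (.S 4 (-575) (.S 5 (-1292) (.S 4 (-1023) (.R [-1, 0, 1]) (.L [0, 0, 1])) (.R [-1, 0, 1])) (.L [0, 0, 1])) (.R [-1, 0, 1])))) (.L [0, 0, 1]))) (.S 4 0 (.R [-1, 0, 1]) (.S 4 (-255) (.R [-1, 0, 1]) (.S 7 0 (.L [1, 0, 0]) (.R [-1, 0, 1]))))) (.R [-1, 0, 1]))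
def c5_26 : Cert := .S 6 499 (.S 5 (-524) (.S 4 0 (.S 4 513 (.S 5 (-1036) (.L [0, 0, 1]) (.R [-1, 0, 1])) (.L [0, 0, 1])) (.S 5 (-844) (.S 7 0 (.L [1, 0, 0]) (.L [-1, 0, 0])) (.L [0, 0, -1]))) (.R [-1, 0, 1])) (.S 5 (-524) (.S 6 819 (.S 4 0 (.S 4 1153 (.S 5 (-1676) (.L [0, 0, 1]) (.R [-1, 0, 1])) (.L [0, 0, 1])) (.S 5 (-1228) (.S 7 0 (.L [1, 0, 0]) (.L [-1, 0, 0])) (.L [0, 0, -1]))) (.S 4 0 (.R [-1, 0, 1]) (.S 5 (-1868) (.S 7 0 (.L [1, 0, 0]) (.R [-1, 0, 1])) (.R [-1, 0, 1])))) (.R [-1, 0, 1]))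
def c5_27 : Cert := .S 6 179 (.S 5 (-332) (.S 5 (-524) (.S 4 0 (.L [0, 0, 1]) (.R [1, 0, -1])) (.S 4 0 (.S 4 65 (.S 5 (-396) (.L [0, 0, 1]) (.S 7 0 (.L [1, 0, 0]) (.R [-1, 0, 1]))) (.L [0, 0, 1])) (.S 4 (-127) (.L [0, 0, -1]) (.R [1, 0, -1])))) (.S 4 0 (.S 4 193 (.S 4 65 (.R [-1, 0, 1]) (.S 7 0 (.L [1, 0, 0]) (.R [-1, 0, 1]))) (.L [0, 0, 1])) (.L [0, 0, -1]))) (.S 5 (-332) (.S 6 307 (.S 5 (-524) (.S 4 0 (.S 4 129 (.S 5 (-652) (.L [0, 0, 1]) (.S 6 243 (.L [0, 0, 1]) (.R [-1, 0, 1]))) (.L [0, 0, 1])) (.S 7 0 (.L [1, 0, 0]) (.L [-1, 0, 0]))) (.S 4 0 (.S 4 321 (.S 7 0 (.L [1, 0, 0]) (.R [-1, 0, 1])) (.L [0, 0, 1])) (.L [0, 0, -1]))) (c5_26)) (.R [-1, 0, 1]))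
def c5_28 : Cert := .S 2 40181 (.S 3 40181 (.S 0 53 (.S 1 53 (.S 2 53 (.S 3 32181 (.L [0, -1, 0]) (.R [-5, -1, 0])) (.S 3 53 (.S 2 32181 (.L [0, -1, 0]) (.R [-5, -1, 0])) (.R [-5, -1, 0]))) (.S 2 53 (.S 3 53 (.S 1 32181 (.L [0, -1, 0]) (.R [-5, -1, 0])) (.R [-5, -1, 0])) (.R [-5, -1, 0]))) (.S 1 53 (.S 2 53 (.S 3 53 (.S 0 32181 (.L [0, -1, 0]) (.R [-5, -1, 0])) (.R [-5, -1, 0])) (.R [-5, -1, 0])) (.R [-5, -1, 0]))) (.R [-5, -1, 0])) (.R [-5, -1, 0])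
def c5_29 : Cert := .S 4 (-5951) (.S 6 (-4557) (.S 4 (-9023) (.S 6 (-6861) (.S 4 (-13631) (.S 6 (-10317) (.R [1, 0, -1]) (.S 4 (-20479) (.L [0, 0, -1]) (.S 6 (-8269) (.S 4 (-16447) (.S 0 0 (.S 1 0 (.S 2 0 (.S 3 0 (.S 0 40181 (.S 1 40181 (c5_28) (.R [-5, -1, 0])) (.R [-5, -1, 0])) (.R [-5, -1, 0])) (.R [-5, -1, 0])) (.R [-5, -1, 0])) (.R [-5, -1, 0])) (.L [0, 0, 1])) (.R [-1, 0, 1])))) (.L [0, 0, 1])) (.R [-1, 0, 1])) (.L [0, 0, 1])) (.R [-1, 0, 1])) (.L [0, 0, 1])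
def c5_30 : Cert := .S 6 (-845) (.S 4 0 (.L [0, 0, 1]) (.S 4 (-1599) (.S 7 0 (.S 7 385 (.S 7 257 (.L [-1, 0, 0]) (.S 6 (-1293) (.S 4 (-2495) (.S 6 (-1997) (.S 4 (-3903) (.S 8 244 (.R [-1, 0, 1]) (.S 7 321 (.L [-1, 0, 0]) (.S 6 (-3021) (c5_29) (.R [-1, 0, 1])))) (.L [0, 0, 1])) (.R [-1, 0, 1])) (.L [0, 0, 1])) (.R [-1, 0, 1]))) (.L [1, 0, 0])) (.R [-1, 0, 1])) (.L [0, 0, 1]))) (.S 4 0 (.R [-1, 0, 1]) (.S 4 (-1535) (.R [-1, 0, 1]) (.S 4 (-959) (.R [-1, 0, 1]) (.L [0, 0, 1]))))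
def c5_31 : Cert := .S 6 (-1293) (.S 4 (-2495) (.S 6 (-1997) (.R [1, 0, -1]) (.S 4 (-3839) (.L [0, 0, -1]) (.S 8 372 (.S 7 449 (.S 6 (-1613) (.S 4 (-3135) (.S 6 (-1805) (.R [1, 0, -1]) (.S 4 (-3455) (.L [0, 0, -1]) (.S 6 (-1677) (.R [1, 0, -1]) (.R [-1, 0, 1])))) (.L [0, 0, 1])) (.R [-1, 0, 1])) (.L [1, 0, 0])) (.R [1, 0, -1])))) (.L [0, 0, 1])) (.S 4 (-2431) (.L [0, 0, -1]) (.S 8 372 (.R [-1, 0, 1]) (.S 7 449 (.L [-1, 0, 0]) (.S 6 (-1037) (.S 4 (-1983) (.S 8 436 (.S 7 513 (.S 6 (-1165) (.R [1, 0, -1]) (.S 4 (-2175) (.L [0, 0, -1]) (.S 6 (-1101) (.R [1, 0, -1]) (.R [-1, 0, 1])))) (.L [1, 0, 0])) (.R [1, 0, -1])) (.L [0, 0, 1])) (.S 4 (-1919) (.L [0, 0, -1]) (.S 8 436 (.R [-1, 0, 1]) (.R [1, 0, -1])))))))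
def c5_32 : Cert := .S 6 (-653) (.S 4 (-1215) (.S 8 628 (.S 7 705 (.S 6 (-717) (.S 4 (-1343) (.S 8 564 (.S 7 641 (.R [1, 0, -1]) (.L [1, 0, 0])) (.R [1, 0, -1])) (.R [1, 0, -1])) (.S 4 (-1279) (.L [0, 0, -1]) (.S 8 564 (.R [-1, 0, 1]) (.R [1, 0, -1])))) (.L [1, 0, 0])) (.R [1, 0, -1])) (.L [0, 0, 1])) (.S 4 (-1151) (.L [0, 0, -1]) (.S 8 628 (.R [-1, 0, 1]) (.S 7 705 (.L [-1, 0, 0]) (.S 6 (-589) (.S 4 (-1087) (.S 8 692 (.R [-1, 0, 1]) (.R [1, 0, -1])) (.L [0, 0, 1])) (.R [-1, 0, 1])))))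
def c5_33 : Cert := .S 8 500 (.S 6 (-845) (.S 4 0 (.L [0, 0, 1]) (.S 4 (-1599) (.S 7 0 (.S 7 577 (.S 7 385 (.L [-1, 0, 0]) (c5_31)) (.L [1, 0, 0])) (.L [-1, 0, 0])) (.L [0, 0, 1]))) (.S 4 0 (.L [0, 0, 1]) (.S 4 (-1535) (.L [0, 0, -1]) (.S 4 (-959) (.S 7 0 (.S 7 577 (.S 7 385 (.L [-1, 0, 0]) (.R [-1, 0, 1])) (.R [-1, 0, 1])) (.R [-1, 0, 1])) (.L [0, 0, 1]))))) (.S 6 (-845) (.S 4 0 (.L [0, 0, 1]) (.S 4 (-1599) (.S 7 0 (.R [1, 0, -1]) (.L [-1, 0, 0])) (.L [0, 0, 1]))) (.S 4 0 (.L [0, 0, 1]) (.S 4 (-1535) (.L [0, 0, -1]) (.S 4 (-959) (.S 7 0 (.S 7 577 (.L [-1, 0, 0]) (.S 8 820 (.S 7 897 (c5_32) (.L [1, 0, 0])) (.S 7 897 (.R [1, 0, -1]) (.S 8 1268 (.S 7 1345 (.R [1, 0, -1]) (.L [1, 0, 0])) (.R [1, 0, -1]))))) (.L [-1, 0, 0])) (.L [0, 0, 1])))))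
def c5_34 : Cert := .S 8 1972 (.S 7 2049 (.S 6 (-461) (.R [1, 0, -1]) (.R [-1, 0, 1])) (.L [1, 0, 0])) (.S 7 2049 (.L [-1, 0, 0]) (.S 8 2996 (.S 7 3073 (.S 6 (-461) (.R [1, 0, -1]) (.S 4 (-767) (.L [0, 0, -1]) (.S 8 2420 (.S 7 2497 (.S 8 2164 (.S 7 2241 (.S 0 0 (.S 1 0 (.S 2 0 (.S 3 0 (.L [0, 1, 0]) (.R [-5, -1, 0])) (.R [-5, -1, 0])) (.R [-5, -1, 0])) (.R [-5, -1, 0])) (.L [1, 0, 0])) (.R [1, 0, -1])) (.L [1, 0, 0])) (.R [1, 0, -1])))) (.L [1, 0, 0])) (.R [1, 0, -1])))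
def c5_35 : Cert := .S 7 897 (.L [-1, 0, 0]) (.S 8 1268 (.S 7 1345 (.S 6 (-397) (.S 4 (-703) (.S 6 (-461) (.S 4 (-831) (.S 8 1012 (.R [-1, 0, 1]) (.S 7 1089 (.L [-1, 0, 0]) (.S 8 1140 (.S 7 1217 (.S 8 1076 (.R [-1, 0, 1]) (.R [1, 0, -1])) (.L [1, 0, 0])) (.R [1, 0, -1])))) (.L [0, 0, 1])) (.R [-1, 0, 1])) (.L [0, 0, 1])) (.R [-1, 0, 1])) (.L [1, 0, 0])) (.S 7 1345 (.L [-1, 0, 0]) (.S 6 (-397) (.S 4 (-703) (c5_34) (.L [0, 0, 1])) (.R [-1, 0, 1]))))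
def c5_36 : Cert := .S 6 (-333) (.S 8 308 (.S 6 (-525) (c5_30) (.R [-1, 0, 1])) (.S 6 (-525) (c5_33) (.S 8 500 (.S 4 0 (.R [-1, 0, 1]) (.S 4 (-895) (.R [-1, 0, 1]) (.S 4 (-575) (.R [-1, 0, 1]) (.L [0, 0, 1])))) (.S 4 0 (.L [0, 0, 1]) (.S 4 (-895) (.L [0, 0, -1]) (.S 4 (-575) (.S 7 0 (.S 7 577 (.L [-1, 0, 0]) (.S 8 820 (.R [-1, 0, 1]) (c5_35))) (.L [-1, 0, 0])) (.L [0, 0, 1]))))))) (.S 8 308 (.R [-1, 0, 1]) (.S 8 500 (.R [-1, 0, 1]) (.S 4 0 (.R [-1, 0, 1]) (.S 4 (-511) (.L [0, 0, -1]) (.S 4 (-319) (.S 7 0 (.S 7 577 (.L [-1, 0, 0]) (.R [-1, 0, 1])) (.R [-1, 0, 1])) (.L [0, 0, 1]))))))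
def c5_37 : Cert := .S 0 16245 (.S 1 16245 (.S 2 16245 (.S 3 16245 (.S 8 (-12428) (.S 7 (-12351) (.S 0 53 (.S 1 53 (.S 2 53 (.R [5, 1, 0]) (.S 3 53 (.R [5, 1, 0]) (.R [-5, -1, 0]))) (.S 2 53 (.S 3 53 (.R [5, 1, 0]) (.R [-5, -1, 0])) (.R [-5, -1, 0]))) (.S 1 53 (.S 2 53 (.S 3 53 (.R [5, 1, 0]) (.R [-5, -1, 0])) (.R [-5, -1, 0])) (.R [-5, -1, 0]))) (.L [1, 0, 0])) (.R [1, 0, -1])) (.L [0, 1, 0])) (.L [0, 1, 0])) (.L [0, 1, 0])) (.L [0, 1, 0])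
def c5_38 : Cert := .S 1 0 (.S 2 0 (.S 3 0 (c5_37) (.S 8 (-12428) (.S 7 (-12351) (.S 0 53 (.S 1 53 (.S 2 13301 (.L [0, -1, 0]) (.R [-5, -1, 0])) (.R [-5, -1, 0])) (.R [-5, -1, 0])) (.L [1, 0, 0])) (.R [1, 0, -1]))) (.S 3 0 (.S 8 (-12428) (.S 7 (-12351) (.S 0 53 (.S 1 53 (.S 3 13301 (.L [0, -1, 0]) (.R [-5, -1, 0])) (.R [-5, -1, 0])) (.R [-5, -1, 0])) (.L [1, 0, 0])) (.R [1, 0, -1])) (.R [-5, -1, 0]))) (.S 2 0 (.S 3 0 (.S 8 (-12428) (.S 7 (-12351) (.S 0 53 (.S 2 53 (.S 3 13301 (.L [0, -1, 0]) (.R [-5, -1, 0])) (.R [-5, -1, 0])) (.R [-5, -1, 0])) (.L [1, 0, 0])) (.R [1, 0, -1])) (.R [-5, -1, 0])) (.R [-5, -1, 0]))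
def c5_39 : Cert := .S 8 (-6860) (.S 7 (-6783) (.S 8 (-10316) (.S 7 (-10239) (.S 8 (-15500) (.R [-1, 0, 1]) (.S 7 (-15423) (.L [-1, 0, 0]) (.S 0 0 (c5_38) (.S 1 0 (.S 2 0 (.S 3 0 (.S 8 (-12428) (.S 7 (-12351) (.S 1 53 (.S 2 53 (.S 3 13301 (.L [0, -1, 0]) (.R [-5, -1, 0])) (.R [-5, -1, 0])) (.R [-5, -1, 0])) (.L [1, 0, 0])) (.R [1, 0, -1])) (.R [-5, -1, 0])) (.R [-5, -1, 0])) (.R [-5, -1, 0]))))) (.L [1, 0, 0])) (.R [1, 0, -1])) (.L [1, 0, 0])) (.R [1, 0, -1])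
def c5_40 : Cert := .S 4 (-575) (.S 7 0 (.L [1, 0, 0]) (.S 7 (-447) (.S 8 (-844) (.S 7 (-767) (.S 8 (-1292) (.S 7 (-1215) (.S 6 (-397) (.R [1, 0, -1]) (.S 4 (-639) (.L [0, 0, -1]) (.S 8 (-1996) (.S 7 (-1919) (.S 8 (-3020) (.S 7 (-2943) (.S 8 (-4556) (.S 7 (-4479) (c5_39) (.L [1, 0, 0])) (.R [1, 0, -1])) (.L [1, 0, 0])) (.R [1, 0, -1])) (.L [1, 0, 0])) (.R [1, 0, -1])))) (.L [1, 0, 0])) (.R [1, 0, -1])) (.L [1, 0, 0])) (.R [1, 0, -1])) (.L [1, 0, 0]))) (.L [0, 0, 1])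
def c5_41 : Cert := .S 4 (-511) (.L [0, 0, -1]) (.S 4 (-319) (.S 7 0 (.L [1, 0, 0]) (.S 7 (-447) (.S 8 (-844) (.S 7 (-767) (.S 6 (-269) (.S 4 (-447) (.S 8 (-1292) (.R [-1, 0, 1]) (.S 7 (-1215) (.L [-1, 0, 0]) (.S 8 (-1036) (.S 7 (-959) (.S 8 (-1164) (.R [-1, 0, 1]) (.R [1, 0, -1])) (.L [1, 0, 0])) (.R [1, 0, -1])))) (.L [0, 0, 1])) (.R [-1, 0, 1])) (.L [1, 0, 0])) (.S 7 (-767) (.L [-1, 0, 0]) (.S 6 (-269) (.R [1, 0, -1]) (.R [-1, 0, 1])))) (.L [1, 0, 0]))) (.L [0, 0, 1]))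
def c5_42 : Cert := .S 8 (-332) (.S 8 (-524) (.S 4 0 (.L [0, 0, 1]) (c5_41)) (.S 4 0 (.L [0, 0, 1]) (.S 4 (-511) (.L [0, 0, -1]) (.S 4 (-319) (.S 7 0 (.R [1, 0, -1]) (.S 7 (-447) (.L [-1, 0, 0]) (.S 7 (-255) (.S 6 (-269) (.R [1, 0, -1]) (.S 4 (-383) (.L [0, 0, -1]) (.S 8 (-396) (.S 7 (-319) (.S 8 (-460) (.R [-1, 0, 1]) (.R [1, 0, -1])) (.L [1, 0, 0])) (.R [1, 0, -1])))) (.L [1, 0, 0])))) (.L [0, 0, 1]))))) (.S 4 0 (.L [0, 0, 1]) (.R [1, 0, -1]))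
def c5_43 : Cert := .S 6 (-205) (.S 8 (-204) (.S 6 (-333) (.S 8 (-332) (.S 6 (-525) (.S 8 (-524) (.S 6 (-845) (.S 4 0 (.L [0, 0, 1]) (.R [1, 0, -1])) (.S 4 0 (.L [0, 0, 1]) (.R [1, 0, -1]))) (.R [1, 0, -1])) (.S 8 (-524) (.S 4 0 (.L [0, 0, 1]) (.S 4 (-895) (.L [0, 0, -1]) (c5_40))) (.R [1, 0, -1]))) (.R [1, 0, -1])) (c5_42)) (.R [1, 0, -1])) (.S 8 (-204) (.S 8 (-332) (.S 8 (-524) (.R [-1, 0, 1]) (.S 4 0 (.R [-1, 0, 1]) (.S 4 (-255) (.R [-1, 0, 1]) (.S 4 (-191) (.R [-1, 0, 1]) (.L [0, 0, 1]))))) (.S 4 0 (.L [0, 0, 1]) (.S 4 (-255) (.L [0, 0, -1]) (.S 4 (-191) (.S 7 0 (.L [1, 0, 0]) (.S 7 (-255) (.L [-1, 0, 0]) (.S 7 (-127) (.S 8 (-268) (.R [-1, 0, 1]) (.S 7 (-191) (.R [1, 0, -1]) (.R [-1, 0, 1]))) (.R [-1, 0, 1])))) (.L [0, 0, 1]))))) (.R [1, 0,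 -1]))
def c5_44 : Cert := .S 6 (-333) (.S 6 (-525) (.S 6 (-845) (.S 4 0 (.L [0, 0, 1]) (.R [1, 0, -1])) (.S 4 0 (.L [0, 0, 1]) (.S 4 (-1407) (.L [0, 0, -1]) (.S 4 (-831) (.S 7 0 (.R [1, 0, -1]) (.L [-1, 0, 0])) (.L [0, 0, 1]))))) (.S 4 0 (.L [0, 0, 1]) (.S 4 (-767) (.L [0, 0, -1]) (.S 4 (-447) (.S 7 0 (.L [1, 0, 0]) (.L [-1, 0, 0])) (.L [0, 0, 1]))))) (.S 4 0 (.R [-1, 0, 1]) (.S 4 (-383) (.R [-1, 0, 1]) (.S 4 (-191) (.R [-1, 0, 1]) (.L [0, 0, 1]))))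
def c5_45 : Cert := .S 5 308 (.S 6 (-525) (.S 6 (-845) (.S 4 0 (.L [0, 0, 1]) (.S 4 (-1343) (.S 7 0 (.L [1, 0, 0]) (.L [-1, 0, 0])) (.L [0, 0, 1]))) (.S 4 0 (.L [0, 0, 1]) (.S 4 (-1343) (.L [0, 0, -1]) (.S 4 (-703) (.S 7 0 (.L [1, 0, 0]) (.R [-1, 0, 1])) (.L [0, 0, 1]))))) (.S 4 0 (.R [-1, 0, 1]) (.S 4 (-703) (.R [-1, 0, 1]) (.S 4 (-319) (.R [-1, 0, 1]) (.L [0, 0, 1]))))) (.S 6 (-525) (.S 5 500 (.S 6 (-845) (.S 4 0 (.L [0, 0, 1]) (.S 4 (-1151) (.S 7 0 (.L [1, 0, 0]) (.R [-1, 0, 1])) (.L [0, 0, 1]))) (.S 4 0 (.R [-1, 0, 1]) (.S 4 (-1215) (.R [-1, 0, 1]) (.S 4 (-511) (.R [-1, 0, 1]) (.L [0, 0, 1]))))) (.S 6 (-845) (.S 4 0 (.R [-1, 0, 1]) (.S 7 0 (.L [1, 0, 0]) (.R [-1, 0, 1]))) (.R [-1, 0, 1]))) (.R [-1, 0, 1]))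
def c5_46 : Cert := .S 8 (-140) (.S 5 116 (.S 6 (-205) (.S 8 (-204) (.R [-1, 0, 1]) (.S 6 (-333) (.S 6 (-525) (.S 6 (-845) (.S 4 0 (.L [0, 0, 1]) (.S 4 (-1535) (.S 7 0 (.L [1, 0, 0]) (.R [-1, 0, 1])) (.L [0, 0, 1]))) (.S 4 0 (.R [-1, 0, 1]) (.S 4 (-1471) (.R [-1, 0, 1]) (.S 4 (-895) (.R [-1, 0, 1]) (.L [0, 0, 1]))))) (.R [-1, 0, 1])) (.R [-1, 0, 1]))) (.R [-1, 0, 1])) (.R [-1, 0, 1])) (.S 5 116 (.S 6 (-205) (.S 6 (-333) (.R [1, 0, -1]) (.S 4 0 (.L [0, 0, 1]) (.S 4 (-447) (.L [0, 0, -1]) (.S 4 (-255) (.S 7 0 (.R [1, 0, -1]) (.L [-1, 0, 0])) (.L [0, 0, 1]))))) (.R [-1, 0, 1])) (.S 6 (-205) (.S 5 180 (c5_44) (.S 6 (-333) (c5_45) (.R [-1, 0, 1]))) (.R [-1, 0, 1])))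
def c5_47 : Cert := .S 6 (-77) (.S 5 0 (.S 8 0 (.S 5 52 (.S 8 52 (.R [-1, 0, 1]) (.S 6 (-141) (.S 8 116 (.R [-1, 0, 1]) (.S 6 (-205) (.S 8 180 (.R [-1, 0, 1]) (c5_36)) (.R [-1, 0, 1]))) (.R [-1, 0, 1]))) (.R [-1, 0, 1])) (.S 5 52 (.S 6 (-141) (.S 8 (-140) (c5_43) (.R [1, 0, -1])) (.S 8 (-140) (.R [-1, 0, 1]) (.S 4 0 (.L [0, 0, 1]) (.R [1, 0, -1])))) (.S 6 (-141) (c5_46) (.R [-1, 0, 1])))) (.R [-1, 0, 1])) (.R [-1, 0, 1])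
def c5_48 : Cert := .S 6 0 (.S 5 0 (c5_24) (.S 8 0 (.R [-3, -1, -2]) (.S 6 51 (.R [0, -1, -5]) (.S 5 (-140) (.S 8 (-140) (.S 6 115 (.S 5 (-204) (c5_25) (.R [-1, 0, 1])) (.R [-1, 0, 1])) (.S 6 115 (.S 5 (-204) (.R [1, 0, -1]) (.S 4 0 (.S 4 129 (.S 4 65 (.R [-1, 0, 1]) (.S 7 0 (.L [1, 0, 0]) (.R [-1, 0, 1]))) (.L [0, 0, 1])) (.L [0, 0, -1]))) (.S 5 (-204) (c5_27) (.R [-1, 0, 1])))) (.R [-1, 0, 1]))))) (c5_47)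
def c5_49 : Cert := .S 8 0 (.S 6 51 (.R [1, 0, -1]) (.S 8 52 (.S 5 (-140) (.R [1, 0, -1]) (.S 6 115 (.R [1, 0, -1]) (.S 6 179 (.R [1, 0, -1]) (.S 6 307 (.R [1, 0, -1]) (.S 6 499 (.R [1, 0, -1]) (.S 6 819 (.S 4 0 (.S 4 1665 (.S 4 1089 (.L [0, 0, -1]) (.R [1, 0, -1])) (.R [1, 0, -1])) (.R [1, 0, -1])) (.S 4 0 (.S 4 1729 (.L [0, 0, -1]) (.S 7 0 (.R [1, 0, -1]) (.L [-1, 0, 0]))) (.L [0, 0, -1])))))))) (.R [1, 0, -1]))) (.R [1, 0, -1])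
def c5_50 : Cert := .S 5 500 (.S 4 0 (.S 4 449 (.S 4 257 (.L [0, 0, -1]) (.S 7 0 (.R [1, 0, -1]) (.L [-1, 0, 0]))) (.L [0, 0, 1])) (.L [0, 0, -1])) (.S 4 0 (.S 4 449 (.L [0, 0, -1]) (.S 7 0 (.S 7 257 (.S 7 193 (.L [-1, 0, 0]) (.S 5 820 (.R [1, 0, -1]) (.S 4 769 (.L [0, 0, -1]) (.S 5 1268 (.S 4 1217 (.S 5 1012 (.R [1, 0, -1]) (.S 4 961 (.L [0, 0, -1]) (.S 5 1140 (.S 4 1089 (.S 5 1076 (.R [1, 0, -1]) (.R [-1, 0, 1])) (.L [0, 0, 1])) (.R [-1, 0, 1])))) (.L [0, 0, 1])) (.R [-1, 0, 1]))))) (.L [1, 0, 0])) (.L [-1, 0, 0]))) (.L [0, 0, -1]))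
def c5_51 : Cert := .S 6 (-845) (.S 4 0 (.L [0, 0, 1]) (.S 4 (-1663) (.S 7 0 (.S 7 257 (.S 7 193 (.L [-1, 0, 0]) (.S 6 (-1293) (.S 4 (-2559) (.S 6 (-1997) (.R [1, 0, -1]) (.S 4 (-3903) (.L [0, 0, -1]) (.S 6 (-1613) (.S 4 (-3199) (.S 6 (-1805) (.R [1, 0, -1]) (.R [-1, 0, 1])) (.L [0, 0, 1])) (.R [-1, 0, 1])))) (.L [0, 0, 1])) (.R [-1, 0, 1]))) (.L [1, 0, 0])) (.L [-1, 0, 0])) (.L [0, 0, 1]))) (.S 4 0 (.R [-1, 0, 1]) (.S 4 (-1599) (.R [-1, 0, 1]) (.S 4 (-1023) (.R [-1, 0, 1]) (.L [0, 0, 1]))))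
def c5_52 : Cert := .S 5 (-140) (.S 6 (-205) (.S 5 (-204) (.R [1, 0, -1]) (.S 6 (-333) (.R [1, 0, -1]) (.S 4 0 (.L [0, 0, 1]) (.S 4 (-639) (.L [0, 0, -1]) (.R [1, 0, -1]))))) (.S 5 (-204) (.S 5 (-332) (.R [1, 0, -1]) (.S 4 0 (.L [0, 0, 1]) (.S 4 (-511) (.L [0, 0, -1]) (.S 4 (-383) (.S 7 0 (.R [1, 0, -1]) (.L [-1, 0, 0])) (.L [0, 0, 1]))))) (.S 4 0 (.R [-1, 0, 1]) (.S 4 (-383) (.R [-1, 0, 1]) (.S 4 (-319) (.R [-1, 0, 1]) (.L [0, 0, 1])))))) (.S 6 (-205) (.S 6 (-333) (.S 6 (-525) (c5_51) (.R [-1, 0, 1])) (.R [-1, 0, 1])) (.R [-1, 0, 1]))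
def c5_53 : Cert := .S 8 52 (.S 6 (-141) (c5_52) (.S 5 (-140) (.S 5 (-204) (.S 5 (-332) (.S 5 (-524) (.S 4 0 (.R [-1, 0, 1]) (.S 4 (-575) (.R [-1, 0, 1]) (.L [0, 0, 1]))) (.R [-1, 0, 1])) (.R [-1, 0, 1])) (.R [-1, 0, 1])) (.R [-1, 0, 1]))) (.S 6 (-141) (.R [1, 0, -1]) (.S 5 (-140) (.R [1, 0, -1]) (.S 8 116 (.R [-1, 0, 1]) (.S 8 180 (.S 4 0 (.L [0, 0, 1]) (.S 4 (-191) (.L [0, 0, -1]) (.S 4 (-127) (.S 7 0 (.S 7 385 (.R [1, 0, -1]) (.L [1, 0, 0])) (.R [-1, 0, 1])) (.L [0, 0, 1])))) (.S 8 308 (.S 4 0 (.L [0, 0, 1]) (.S 4 (-191) (.L [0, 0, -1]) (.R [1, 0, -1]))) (.R [1, 0, -1]))))))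
def c5_54 : Cert := .S 9 39 (c5_48) (.S 6 0 (.S 9 103 (.S 5 0 (.R [1, 0, -1]) (c5_49)) (.R [1, 0, -1])) (.S 6 (-77) (.S 9 103 (.S 5 0 (.S 8 0 (.S 5 52 (.R [1, 0, -1]) (.S 8 52 (.S 6 (-141) (.R [1, 0, -1]) (.S 5 116 (.R [1, 0, -1]) (.S 5 180 (.R [1, 0, -1]) (.S 5 308 (.R [1, 0, -1]) (c5_50))))) (.R [1, 0, -1]))) (.R [1, 0, -1])) (.S 8 0 (c5_53) (.R [1, 0, -1]))) (.R [1, 0, 0])) (.R [0, 1, 5])))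
def c5 : Cert := .S 9 0 (c5_54) (.R [3, 1, 2])

theorem l5 : leafOK pr.r0 pr.t (tysOf its) [70, 70, 70, 70, 67, 62, 53, 38, 36, 25] c5 = true := by decide +kernel

def c6_1 : Cert := .S 2 0 (.S 5 0 (.L [0, 1, 0]) (.S 5 (-780) (.S 0 106 (.S 3 51 (.R [1, 0, -1]) (.S 2 52 (.R [1, 0, -1]) (.S 5 (-1292) (.S 3 115 (.S 2 116 (.R [1, 0, -1]) (.S 2 180 (.S 5 (-1612) (.L [0, -1, 0]) (.S 5 (-1548) (.S 1 0 (.R [0, 1, 5]) (.L [0, 0, -1])) (.L [0, 1, 0]))) (.R [0, 1, 5]))) (.R [0, 1, 5])) (.L [0, 1, 0])))) (.R [0, -1, -5])) (.L [0, 1, 0]))) (.S 5 0 (.R [-3, -1, -2]) (.S 0 106 (.S 3 51 (.R [0, -1, -5]) (.S 2 (-140) (.S 5 (-140) (.S 3 115 (.S 2 (-204) (.L [0, -1, 0]) (.R [-1, 0, 1])) (.R [-1, 0, 1])) (.S 2 (-204) (.R [2, 1, 3]) (.L [0, 1, 0]))) (.R [-1, 0, 1])))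 (.R [-1, -1, -4])))
def c6_2 : Cert := .S 3 0 (.S 0 0 (.S 0 42 (.R [5, 1, 0]) (c6_1)) (.R [0, -1, -5])) (.S 0 0 (.S 3 (-77) (.S 0 42 (.R [0, 1, 5]) (.S 2 0 (.S 5 0 (.S 3 (-205) (.S 0 106 (.R [0, 1, 5]) (.R [-5, -1, 0])) (.R [-1, 0, 1])) (.S 0 106 (.R [0, 1, 5]) (.S 2 52 (.S 0 170 (.S 3 (-205) (.R [0, -1, -5]) (.S 5 (-460) (.R [-1, 0, 1]) (.S 5 (-140) (.S 3 (-141) (.R [-1, -1, -4]) (.R [-1, 0, 1])) (.R [5, 1, 0])))) (.R [-1, -1, -4])) (.R [-3, -1, -2])))) (.R [-1, 0, 1]))) (.R [-1, 0, 1])) (.R [-5, -1, 0]))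
def c6_3 : Cert := .S 3 51 (.R [1, 0, -1]) (.S 5 52 (.S 0 (-214) (.S 2 (-140) (.R [1, 0, -1]) (.S 0 (-342) (.S 3 115 (.R [1, 0, -1]) (.S 0 (-534) (.S 3 179 (.R [1, 0, -1]) (.S 0 (-854) (.S 3 371 (.R [1, 0, -1]) (.S 0 (-1302) (.S 3 563 (.R [1, 0, -1]) (.S 1 0 (.S 1 1217 (.L [0, 0, -1]) (.S 4 0 (.R [1, 0, -1]) (.L [-1, 0, 0]))) (.L [0, 0, -1]))) (.R [0, -1, -5]))) (.R [0, -1, -5]))) (.R [-5, -1, 0]))) (.R [-5, -1, 0]))) (.R [-5, -1, 0])) (.R [1, 0, -1]))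
def c6_4 : Cert := .S 0 106 (.R [5, 1, 0]) (.S 5 52 (.S 0 170 (.R [5, 1, 0]) (.S 3 (-141) (.S 2 (-140) (.R [5, 1, 0]) (.S 3 (-205) (.S 0 298 (.R [5, 1, 0]) (.S 0 490 (.R [5, 1, 0]) (.S 3 (-333) (.S 0 810 (.R [5, 1, 0]) (.S 3 (-525) (.S 0 1258 (.R [5, 1, 0]) (.S 3 (-845) (.S 1 0 (.R [0, 1, 5]) (.S 1 (-1663) (.R [0, 1, 5]) (.L [0, 0, 1]))) (.R [0, 1, 5]))) (.R [-1, 0, 1]))) (.R [-1, 0, 1])))) (.R [-1, 0, 1]))) (.R [0, 1, 5]))) (.R [5, 1, 0]))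
def c6_5 : Cert := .S 3 (-77) (.S 6 103 (.S 2 0 (.S 5 0 (.S 0 (-150) (.S 2 52 (.R [1, 0, -1]) (.S 5 52 (.S 0 (-214) (.S 3 (-141) (.R [1, 0, -1]) (.S 0 (-342) (.S 2 116 (.R [1, 0, -1]) (.S 0 (-534) (.R [1, 1, 4]) (.S 2 180 (.R [1, 0, -1]) (.L [0, 1, 0])))) (.R [0, -1, -5]))) (.R [0, -1, -5])) (.R [1, 0, -1]))) (.R [0, -1, -5])) (.R [1, 0, -1])) (.S 5 0 (.S 5 308 (.L [0, -1, 0]) (.R [1, 0, -1])) (.R [1, 0, -1]))) (.R [1, 0, 0])) (.R [0, 1, 5])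
def c6_6 : Cert := .S 3 0 (.S 0 0 (.S 0 42 (.R [5, 1, 0]) (.S 6 103 (.S 2 0 (.R [1, 0, -1]) (.S 5 0 (.S 2 (-268) (.R [1, 0, -1]) (.L [0, 1, 0])) (.R [1, 0, -1]))) (.R [1, 0, -1]))) (.S 6 103 (.S 2 0 (.R [1, 0, -1]) (.S 5 0 (.S 0 (-150) (c6_3) (.R [0, -1, -5])) (.R [1, 0, -1]))) (.R [1, 0, -1]))) (.S 0 0 (.S 3 (-77) (.S 0 42 (.R [5, 1, 0]) (.S 6 103 (.S 2 0 (.R [5, 1, 0]) (.S 5 0 (c6_4) (.R [1, 0, -1]))) (.R [5, 1, 0]))) (.R [0, 1, 5])) (c6_5))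
def c6 : Cert := .S 6 0 (.S 6 39 (c6_2) (c6_6)) (.R [1, 0, 0])

theorem l6 : leafOK pr.r0 pr.t (tysOf its) [69, 67, 62, 53, 38, 36, 25] c6 = true := by decide +kernel

def c7_1 : Cert := .S 5 39 (.S 4 41 (.R [-1, 0, 1]) (.S 2 0 (.S 3 0 (.S 3 118 (.L [-1, 0, 0]) (.R [-1, -1, -4])) (.R [-5, -1, 0])) (.S 2 (-77) (.S 3 0 (.S 3 118 (.L [-1, 0, 0]) (.R [-5, -1, 0])) (.R [-5, -1, 0])) (.R [-1, 0, 1])))) (.S 4 41 (.R [0, 1, 5]) (.S 2 0 (.S 3 0 (.S 3 246 (.R [2, 1, 3]) (.S 5 103 (.S 4 105 (.R [1, 1, 4]) (.R [3, 1, 2])) (.R [5, 1, 0]))) (.L [-1, 0, 0])) (.S 2 (-77) (.S 3 0 (.R [2, 1, 3]) (.L [-1, 0, 0])) (.R [0, 1, 5]))))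
def c7_2 : Cert := .S 2 0 (.S 3 0 (.R [1, 0, -1]) (.S 4 (-279) (.S 5 103 (.R [0, -1, -5]) (.S 4 (-407) (.S 5 167 (.R [0, -1, -5]) (.R [1, 0, -1])) (.R [1, 0, -1]))) (.R [1, 0, -1]))) (.S 2 (-77) (.S 3 0 (.R [1, 0, -1]) (.S 4 (-279) (.S 5 103 (.S 1 0 (.S 1 116 (.L [0, -1, 0]) (.S 3 (-138) (.R [1, 0, -1]) (.R [0, -1, -5]))) (.L [0, -1, 0])) (.S 4 (-407) (.S 5 167 (.S 1 0 (.S 1 116 (.R [1, 0, -1]) (.S 3 (-138) (.R [1, 0, -1]) (.R [0, -1, -5]))) (.L [0, -1, 0])) (.R [1, 0, 0])) (.R [1, 0, 0]))) (.L [-1, 0, 0]))) (.R [0, 1, 5]))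
def c7 : Cert := .S 5 0 (.S 4 0 (c7_1) (.S 5 39 (.S 2 0 (.R [0, -1, -5]) (.S 2 (-77) (.S 3 0 (.L [1, 0, 0]) (.R [0, -1, -5])) (.R [0, 1, 5]))) (c7_2))) (.S 5 (-89) (.S 4 0 (.S 4 41 (.R [0, 1, 5]) (.S 2 0 (.S 3 0 (.R [1, 0, -1]) (.S 5 (-153) (.S 4 105 (.R [1, 1, 4]) (.R [3, 1, 2])) (.R [1, 0, -1]))) (.R [2, 1, 3]))) (.R [3, 1, 2])) (.R [5, 1, 0]))

theorem l7 : leafOK pr.r0 pr.t (tysOf its) [67, 62, 53, 37, 35, 25] c7 = true := by decide +kernel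

def c8_1 : Cert := .S 9 154 (.S 4 0 (.R [1, 0, -1]) (.S 5 0 (.R [1, 0, -1]) (.S 7 0 (.S 8 0 (.S 7 52 (.S 8 52 (.S 4 (-140) (.R [1, 0, -1]) (.S 5 (-140) (.R [1, 0, -1]) (.S 2 0 (.R [-1, 0, 1]) (.S 3 0 (.R [-1, 0, 1]) (.L [0, 0, -1]))))) (.R [1, 0, -1])) (.R [1, 0, -1])) (.R [1, 0, -1])) (.R [1, 0, -1])))) (.S 4 0 (.R [1, 0, -1]) (.S 5 0 (.R [1, 0, -1]) (.S 7 0 (.S 8 0 (.S 9 282 (.S 7 52 (.S 8 52 (.S 4 (-140) (.R [1, 0, -1]) (.S 5 (-140) (.R [1, 0, -1]) (.S 9 218 (.S 2 0 (.R [-1, 0, 1]) (.S 3 0 (.R [-1, 0, 1]) (.L [0, 0, -1]))) (.R [1, 0, 0])))) (.R [1, 0, -1])) (.R [1, 0, -1])) (.R [1, 0, 0])) (.R [1, 0, -1])) (.R [1, 0, -1]))))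
def c8 : Cert := .S 9 0 (.S 9 26 (.R [0, -1, -5]) (.S 9 90 (.R [0, -1, -5]) (c8_1))) (.R [5, 1, 0])

theorem l8 : leafOK pr.r0 pr.t (tysOf its) [70, 70, 67, 67, 62, 62, 38, 36, 36, 24] c8 = true := by decide +kernel

def c9_1 : Cert := .S 6 116 (.S 7 116 (.R [-1, 0, 1]) (.S 7 180 (.R [-1, 0, 1]) (.S 7 308 (.S 5 0 (.S 5 513 (.S 5 385 (.L [-1, 0, 0]) (.S 7 244 (.R [-1, 0, 1]) (.R [1, 0, -1]))) (.L [1, 0, 0])) (.L [-1, 0, 0])) (.S 7 500 (.S 5 0 (.R [1, 0, -1]) (.L [-1, 0, 0])) (.R [1, 0, -1]))))) (.S 7 116 (.S 6 180 (.R [-1, 0, 1]) (.S 6 308 (.S 5 0 (.S 5 513 (.S 5 385 (.L [-1, 0, 0]) (.S 6 244 (.R [-1, 0, 1]) (.R [1, 0, -1]))) (.L [1, 0, 0])) (.L [-1, 0, 0])) (.S 6 500 (.S 5 0 (.R [1, 0, -1]) (.L [-1, 0, 0])) (.R [1, 0, -1])))) (.S 6 180 (.S 7 180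 (.S 5 0 (.R [1, 0, -1]) (.L [-1, 0, 0])) (.R [1, 0, -1])) (.R [1, 0, -1])))
def c9_2 : Cert := .S 6 116 (.S 7 116 (.R [-1, 0, 1]) (.S 7 180 (.R [-1, 0, 1]) (.S 7 308 (.S 5 0 (.S 5 513 (.S 5 385 (.L [-1, 0, 0]) (.S 7 244 (.R [-1, 0, 1]) (.R [1, 0, -1]))) (.L [1, 0, 0])) (.L [-1, 0, 0])) (.S 7 500 (.S 5 0 (.R [1, 0, -1]) (.L [-1, 0, 0])) (.R [1, 0, -1]))))) (.S 7 116 (.S 6 180 (.R [-1, 0, 1]) (.S 6 308 (.S 5 0 (.S 5 513 (.S 5 385 (.L [-1, 0, 0]) (.S 6 244 (.R [-1, 0, 1]) (.R [1, 0, -1]))) (.L [1, 0, 0])) (.L [-1, 0, 0])) (.S 6 500 (.S 5 0 (.R [1, 0, -1]) (.L [-1, 0, 0])) (.R [1, 0, -1])))) (.S 6 180 (.S 7 180 (.S 5 0 (.R [1, 0, -1]) (.L [-1, 0, 0])) (.R [1, 0, -1])) (.R [1, 0, -1])))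
def c9_3 : Cert := .S 2 (-77) (.S 3 (-77) (.R [1, 0, -1]) (.S 6 0 (.S 7 0 (.S 6 52 (.R [-1, 0, 1]) (.S 7 52 (.R [-1, 0, 1]) (c9_1))) (.S 6 52 (.S 7 (-140) (.S 7 (-204) (.R [-1, 0, 1]) (.S 5 0 (.L [1, 0, 0]) (.R [-1, 0, 1]))) (.R [1, 0, -1])) (.R [1, 0, -1]))) (.S 7 0 (.S 7 52 (.S 6 (-140) (.S 6 (-204) (.R [-1, 0, 1]) (.S 5 0 (.L [1, 0, 0]) (.R [-1, 0, 1]))) (.R [1, 0, -1])) (.R [1, 0, -1])) (.R [1, 0, -1])))) (.S 3 (-77) (.S 6 0 (.S 7 0 (.S 6 52 (.R [-1, 0, 1]) (.S 7 52 (.R [-1, 0, 1]) (c9_2))) (.S 6 52 (.S 7 (-140) (.S 7 (-204) (.R [-1, 0, 1]) (.S 5 0 (.L [1, 0, 0]) (.R [-1, 0, 1]))) (.R [1, 0, -1])) (.R [1, 0, -1]))) (.S 7 0 (.S 7 52 (.S 6 (-140) (.S 6 (-204) (.R [-1, 0, 1]) (.S 5 0 (.L [1, 0, 0]) (.R [-1, 0, 1]))) (.R [1, 0, -1])) (.R [1, 0,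 -1])) (.R [1, 0, -1]))) (.R [0, 0, 1]))
def c9_4 : Cert := .S 8 90 (.S 2 0 (.S 3 0 (.R [1, 0, -1]) (.S 3 (-141) (.R [1, 0, -1]) (.L [0, 0, -1]))) (.S 3 0 (.S 2 (-141) (.R [1, 0, -1]) (.L [0, 0, -1])) (.S 2 (-141) (.L [0, 0, 1]) (.S 3 (-141) (.L [0, 0, 1]) (c9_3))))) (.S 2 0 (.S 3 0 (.R [1, 0, -1]) (.S 3 (-205) (.R [1, 0, -1]) (.L [0, 0, -1]))) (.S 3 0 (.S 2 (-205) (.R [1, 0, -1]) (.L [0, 0, -1])) (.S 2 (-77) (.S 3 (-77) (.R [1, 0, -1]) (.R [0, 0, 1])) (.R [0, 0, 1]))))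
def c9 : Cert := .S 8 0 (.S 8 26 (.R [0, -1, -5]) (c9_4)) (.R [1, 0, 0])

theorem l9 : leafOK pr.r0 pr.t (tysOf its) [70, 70, 65, 65, 55, 38, 36, 36, 24] c9 = true := by decide +kernel

def c10 : Cert := .S 7 0 (.S 7 26 (.R [0, -1, -5]) (.S 3 0 (.R [1, 0, -1]) (.S 3 (-77) (.R [1, 0, -1]) (.R [0, 0, 1])))) (.R [1, 0, 0])

theorem l10 : leafOK pr.r0 pr.t (tysOf its) [70, 70, 56, 53, 38, 36, 36, 24] c10 = true := by decide +kernel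

def c11 : Cert := .S 7 0 (.S 7 26 (.R [0, -1, -5]) (.S 3 0 (.R [1, 0, -1]) (.S 3 (-77) (.R [1, 0, -1]) (.R [0, 0, 1])))) (.R [1, 0, 0])

theorem l11 : leafOK pr.r0 pr.t (tysOf its) [70, 70, 54, 53, 38, 36, 36, 24] c11 = true := by decide +kernel

def c12 : Cert := .S 10 0 (.S 10 26 (.R [0, -1, -5]) (.S 6 0 (.R [1, 0, -1]) (.S 6 (-77) (.R [1, 0, -1]) (.R [0, 0, 1])))) (.R [1, 0, 0])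

theorem l12 : leafOK pr.r0 pr.t (tysOf its) [70, 70, 70, 70, 70, 70, 40, 38, 36, 36, 24] c12 = true := by decide +kernel

def c13 : Cert := .S 7 0 (.S 7 26 (.S 3 0 (.R [1, 0, -1]) (.S 3 (-77) (.R [1, 0, -1]) (.S 2 0 (.S 2 42 (.R [0, 1, 5]) (.R [-5, -1, 0])) (.R [-5, -1, 0])))) (.S 3 0 (.R [1, 0, -1]) (.S 3 (-77) (.R [1, 0, -1]) (.R [0, 0, 1])))) (.R [1, 0, 0])

theorem l13 : leafOK pr.r0 pr.t (tysOf its) [70, 70, 69, 40, 38, 36, 36, 24] c13 = true := by decide +kernel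

def c14 : Cert := .S 10 0 (.S 10 26 (.R [0, -1, -5]) (.S 6 0 (.R [1, 0, -1]) (.S 6 (-77) (.R [1, 0, -1]) (.R [0, 0, 1])))) (.R [1, 0, 0])

theorem l14 : leafOK pr.r0 pr.t (tysOf its) [70, 70, 70, 70, 70, 70, 39, 38, 36, 36, 24] c14 = true := by decide +kernel

def c15 : Cert := .S 7 0 (.S 7 26 (.S 3 0 (.R [1, 0, -1]) (.S 3 (-77) (.R [1, 0, -1]) (.S 2 0 (.S 2 42 (.R [0, 1, 5]) (.R [-5, -1, 0])) (.R [-5, -1, 0])))) (.S 3 0 (.R [1, 0, -1]) (.S 3 (-77) (.R [1, 0, -1]) (.R [0, 0, 1])))) (.R [1, 0, 0])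

theorem l15 : leafOK pr.r0 pr.t (tysOf its) [70, 70, 69, 39, 38, 36, 36, 24] c15 = true := by decide +kernel

def c16 : Cert := .S 7 0 (.S 7 26 (.R [0, -1, -5]) (.S 6 0 (.S 6 41 (.R [-1, 0, 1]) (.S 7 90 (.R [0, -1, -5]) (.R [2, 1, 3]))) (.R [1, 0, -1]))) (.R [2, 1, 3])

theorem l16 : leafOK pr.r0 pr.t (tysOf its) [67, 67, 62, 62, 38, 38, 35, 24] c16 = true := by decide +kernel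

def c17_1 : Cert := .S 1 (-141) (.L [0, 0, 1]) (.S 5 105 (.S 2 0 (.R [0, 1, 5]) (.S 2 (-139) (.L [0, -1, 0]) (.R [-5, -1, 0]))) (.S 2 0 (.R [3, 1, 2]) (.S 2 (-139) (.S 0 (-77) (.S 1 (-77) (.R [1, 0, -1]) (.S 5 169 (.R [-1, 0, 1]) (.S 5 297 (.R [-1, 0, 1]) (.S 2 (-203) (.R [2, 1, 3]) (.R [0, -1, -5]))))) (.S 1 (-77) (.S 5 169 (.R [-1, 0, 1]) (.S 5 297 (.R [-1, 0, 1]) (.S 2 (-203) (.R [2, 1, 3]) (.R [0, -1, -5])))) (.R [-1, 0, 1]))) (.R [-2, -1, -3]))))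
def c17_2 : Cert := .S 0 0 (.S 1 0 (.R [1, 0, -1]) (.S 1 (-205) (.R [1, 0, -1]) (.L [0, 0, -1]))) (.S 1 0 (.S 0 (-205) (.R [1, 0, -1]) (.L [0, 0, -1])) (.S 5 105 (.S 0 (-77) (.S 1 (-77) (.S 6 154 (.S 0 (-141) (.R [1, 0, -1]) (.S 1 (-141) (.R [1, 0, -1]) (.S 2 0 (.R [5, 1, 0]) (.S 2 (-139) (.R [5, 1, 0]) (.R [-5, -1, 0]))))) (.S 2 0 (.R [5, 1, 0]) (.S 2 (-139) (.R [5, 1, 0]) (.L [0, 1, 2])))) (.R [-1, 0, 1])) (.R [-1, 0, 1])) (.S 0 (-77) (.S 1 (-77) (.R [1, 0, -1]) (.R [0, 0, 1])) (.R [0, 0, 1]))))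
def c17_3 : Cert := .S 5 0 (.S 5 41 (.R [-1, 0, 1]) (.S 6 90 (.S 0 0 (.S 1 0 (.R [1, 0, -1]) (.S 1 (-141) (.R [1, 0, -1]) (.L [0, 0, -1]))) (.S 1 0 (.S 0 (-141) (.R [1, 0, -1]) (.L [0, 0, -1])) (.S 0 (-141) (.L [0, 0, 1]) (c17_1)))) (c17_2))) (.S 6 90 (.S 5 (-151) (.S 0 0 (.R [1, 0, -1]) (.S 1 0 (.R [1, 0, -1]) (.S 0 (-141) (.R [1, 0, -1]) (.S 1 (-141) (.R [1, 0, -1]) (.S 2 0 (.R [3, 1, 2]) (.L [0, -1, 0])))))) (.R [1, 0, -1])) (.R [3, 1, 2]))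
def c17 : Cert := .S 6 0 (.S 6 26 (.R [-1, -1, -4]) (c17_3)) (.R [2, 1, 3])

theorem l17 : leafOK pr.r0 pr.t (tysOf its) [65, 65, 55, 38, 38, 35, 24] c17 = true := by decide +kernel

def c18_1 : Cert := .S 5 0 (.S 5 26 (.R [-1, -1, -4]) (.S 4 0 (.S 4 41 (.R [-1, 0, 1]) (.S 1 0 (.R [1, 0, -1]) (.S 1 (-77) (.S 5 90 (.L [0, 0, 1]) (.S 4 105 (.S 5 154 (.S 1 (-141) (.R [1, 0, -1]) (.S 0 0 (.R [5, 1, 0]) (.S 0 (-139) (.R [5, 1, 0]) (.R [-5, -1, 0])))) (.S 1 (-141) (.R [1, 0, -1]) (.L [0, 0, -1]))) (.R [1, 0, -1]))) (.R [-1, 0, 1])))) (.S 1 0 (.R [1, 0, -1]) (.S 1 (-77) (.R [1, 0, -1]) (.R [0, 0, 1]))))) (.R [2, 1, 3])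
def c18 : Cert := c18_1

theorem l18 : leafOK pr.r0 pr.t (tysOf its) [56, 53, 38, 38, 35, 24] c18 = true := by decide +kernel

def c19_1 : Cert := .S 5 0 (.S 5 26 (.R [-1, -1, -4]) (.S 4 0 (.S 4 41 (.R [-1, 0, 1]) (.S 1 0 (.R [1, 0, -1]) (.S 1 (-77) (.S 5 90 (.L [0, 0, 1]) (.S 4 105 (.S 5 154 (.S 1 (-141) (.R [1, 0, -1]) (.S 0 0 (.R [5, 1, 0]) (.S 0 (-139) (.R [5, 1, 0]) (.R [-5, -1, 0])))) (.S 1 (-141) (.R [1, 0, -1]) (.L [0, 0, -1]))) (.R [1, 0, -1]))) (.R [-1, 0, 1])))) (.S 1 0 (.R [1, 0, -1]) (.S 1 (-77) (.R [1, 0, -1]) (.R [0, 0, 1]))))) (.R [2, 1, 3])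
def c19 : Cert := c19_1

theorem l19 : leafOK pr.r0 pr.t (tysOf its) [54, 53, 38, 38, 35, 24] c19 = true := by decide +kernel

def c20_1 : Cert := .S 7 41 (.R [-1, 0, 1]) (.S 4 0 (.R [1, 0, -1]) (.S 4 (-77) (.S 8 90 (.L [0, 0, 1]) (.S 7 105 (.S 8 154 (.S 4 (-141) (.R [1, 0, -1]) (.S 5 0 (.S 6 0 (.S 5 193 (.S 6 193 (.R [1, 0, -1]) (.L [1, 0, 0])) (.L [1, 0, 0])) (.S 5 257 (.L [-1, 0, 0]) (.R [-1, 0, 1]))) (.S 6 0 (.S 6 257 (.L [-1, 0, 0]) (.R [-1, 0, 1])) (.R [-1, 0, 1])))) (.S 4 (-141) (.R [1, 0, -1]) (.L [0, 0, -1]))) (.R [1, 0, -1]))) (.R [-1, 0, 1])))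
def c20 : Cert := .S 8 0 (.S 8 26 (.R [-1, -1, -4]) (.S 7 0 (c20_1) (.S 4 0 (.R [1, 0, -1]) (.S 4 (-77) (.R [1, 0, -1]) (.R [0, 0, 1]))))) (.R [2, 1, 3])

theorem l20 : leafOK pr.r0 pr.t (tysOf its) [70, 70, 70, 70, 40, 38, 38, 35, 24] c20 = true := by decide +kernel

def c21_1 : Cert := .S 5 26 (.S 4 0 (.S 4 41 (.R [-1, 0, 1]) (.S 1 0 (.R [1, 0, -1]) (.S 1 (-77) (.R [0, -1, -5]) (.R [-1, 0, 1])))) (.S 1 0 (.R [1, 0, -1]) (.S 1 (-77) (.R [1, 0, -1]) (.S 0 0 (.S 0 42 (.R [2, 1, 3]) (.R [-5, -1, 0])) (.R [-5, -1, 0]))))) (.S 4 0 (.S 4 41 (.R [-1, 0, 1]) (.S 1 0 (.R [1, 0, -1]) (.S 1 (-77) (.S 5 90 (.L [0, 0, 1]) (.S 0 0 (.R [5, 1, 0]) (.S 0 (-214) (.S 4 105 (.S 1 (-141) (.R [1, 0, -1]) (.R [0, 1, 5])) (.R [1, 0, -1])) (.L [0, 1, 2])))) (.R [-1, 0,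 1])))) (.S 1 0 (.R [1, 0, -1]) (.S 1 (-77) (.R [1, 0, -1]) (.R [0, 0, 1]))))
def c21 : Cert := .S 5 0 (c21_1) (.S 4 0 (.S 5 (-102) (.S 4 41 (.R [-1, 0, 1]) (.R [1, 0, 0])) (.R [0, 1, 5])) (.R [3, 1, 2]))

theorem l21 : leafOK pr.r0 pr.t (tysOf its) [69, 40, 38, 38, 35, 24] c21 = true := by decide +kernel

def c22_1 : Cert := .S 7 41 (.R [-1, 0, 1]) (.S 4 0 (.R [1, 0, -1]) (.S 4 (-77) (.S 8 90 (.L [0, 0, 1]) (.S 7 105 (.S 8 154 (.S 4 (-141) (.R [1, 0, -1]) (.S 5 0 (.S 6 0 (.S 5 193 (.S 6 193 (.R [1, 0, -1]) (.L [1, 0, 0])) (.L [1, 0, 0])) (.S 5 257 (.L [-1, 0, 0]) (.R [-1, 0, 1]))) (.S 6 0 (.S 6 257 (.L [-1, 0, 0]) (.R [-1, 0, 1])) (.R [-1, 0, 1])))) (.S 4 (-141) (.R [1, 0, -1]) (.L [0, 0, -1]))) (.R [1, 0, -1]))) (.R [-1, 0, 1])))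
def c22 : Cert := .S 8 0 (.S 8 26 (.R [-1, -1, -4]) (.S 7 0 (c22_1) (.S 4 0 (.R [1, 0, -1]) (.S 4 (-77) (.R [1, 0, -1]) (.R [0, 0, 1]))))) (.R [2, 1, 3])

theorem l22 : leafOK pr.r0 pr.t (tysOf its) [70, 70, 70, 70, 39, 38, 38, 35, 24] c22 = true := by decide +kernel

def c23_1 : Cert := .S 5 26 (.S 4 0 (.S 4 41 (.R [-1, 0, 1]) (.S 1 0 (.R [1, 0, -1]) (.S 1 (-77) (.R [0, -1, -5]) (.R [-1, 0, 1])))) (.S 1 0 (.R [1, 0, -1]) (.S 1 (-77) (.R [1, 0, -1]) (.S 0 0 (.S 0 42 (.R [2, 1, 3]) (.R [-5, -1, 0])) (.R [-5, -1, 0]))))) (.S 4 0 (.S 4 41 (.R [-1, 0, 1]) (.S 1 0 (.R [1, 0, -1]) (.S 1 (-77) (.S 5 90 (.L [0, 0, 1]) (.S 0 0 (.R [5, 1, 0]) (.S 0 (-214) (.S 4 105 (.S 1 (-141) (.R [1, 0, -1]) (.R [0, 1, 5])) (.R [1, 0, -1])) (.L [0, 1, 2])))) (.R [-1, 0,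 1])))) (.S 1 0 (.R [1, 0, -1]) (.S 1 (-77) (.R [1, 0, -1]) (.R [0, 0, 1]))))
def c23 : Cert := .S 5 0 (c23_1) (.S 4 0 (.S 5 (-102) (.S 4 41 (.R [-1, 0, 1]) (.R [1, 0, 0])) (.R [0, 1, 5])) (.R [3, 1, 2]))

theorem l23 : leafOK pr.r0 pr.t (tysOf its) [69, 39, 38, 38, 35, 24] c23 = true := by decide +kernel

def c24_1 : Cert := .S 4 (-780) (.S 6 794 (.S 2 (-461) (.L [0, 0, 1]) (.S 4 (-1100) (.L [1, 0, 0]) (.S 0 0 (.S 1 0 (.R [5, 1, 0]) (.S 0 53 (.R [5, 1, 0]) (.S 1 (-139) (.R [0, 1, 5]) (.L [1, 1, 2])))) (.S 1 0 (.S 1 53 (.R [5, 1, 0]) (.S 0 (-139) (.R [0, 1, 5]) (.L [1, 1, 2]))) (.L [-1, -1, -2]))))) (.S 2 (-461) (.S 4 (-1164) (.S 0 0 (.R [3, 1, 2]) (.S 1 0 (.R [3, 1, 2]) (.L [-1, -1, -2]))) (.R [1, 0, -1])) (.L [0, 0, -1]))) (.L [-1, 0, 0])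
def c24_2 : Cert := .S 6 154 (.S 2 (-141) (.L [0, 0, 1]) (.S 4 0 (.L [-1, 0, 0]) (.S 4 (-396) (.S 3 (-138) (.R [1, 0, -1]) (.S 5 169 (.R [-1, 0, 1]) (.S 5 297 (.S 4 (-588) (.L [1, 0, 0]) (.S 4 (-460) (.S 0 0 (.S 1 0 (.L [0, 1, 0]) (.R [-2, -1, -3])) (.R [-2, -1, -3])) (.L [-1, 0, 0]))) (.R [1, 0, -1])))) (.L [-1, 0, 0])))) (.S 2 (-141) (.S 4 0 (.L [-1, 0, 0]) (.S 4 (-524) (.S 3 (-138) (.R [1, 0, -1]) (.S 5 169 (.S 6 282 (.S 2 (-205) (.L [0, 0, 1]) (.R [-1, 0, 1])) (.S 2 (-205) (.S 6 474 (.S 2 (-269) (.L [0, 0, 1]) (.R [-1, 0, 1])) (c24_1)) (.R [-1, 0, 1]))) (.R [1, 0, -1]))) (.L [-1, 0, 1]))) (.L [0, 0, -1]))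
def c24_3 : Cert := .S 3 0 (.S 5 105 (.S 3 54 (.R [1, 0, -1]) (.S 6 154 (.S 2 (-141) (.L [0, 0, 1]) (.R [0, 1, 5])) (.R [1, 1, 4]))) (.S 3 54 (.R [1, 0, -1]) (.S 6 154 (.S 2 (-141) (.R [1, 0, -1]) (.S 4 0 (.S 3 310 (.R [1, 0, -1]) (.S 5 169 (.S 4 52 (.R [0, 1, 5]) (.R [1, 0, -1])) (.R [1, 0, -1]))) (.R [1, 0, -1]))) (.R [5, 1, 0])))) (.S 5 105 (.S 6 154 (.S 2 (-141) (.L [0, 0, 1]) (.S 4 0 (.R [-1, 0, 1]) (.S 4 (-332) (.S 3 (-138) (.S 3 (-202) (.R [0, 1, 5]) (.R [-1, 0, 1])) (.R [-1, 0, 1])) (.L [-1, 0, 0])))) (.S 2 (-141) (.S 4 0 (.L [-1, 0, 0]) (.S 4 (-460) (.S 3 (-138) (.S 6 282 (.S 2 (-205) (.L [0, 0, 1]) (.R [0, 1, 5])) (.R [0, 1, 5])) (.R [-1, 0, 1])) (.L [-1, 0, 1]))) (.L [0, 0, -1]))) (c24_2))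
def c24_4 : Cert := .S 5 0 (.S 5 41 (.S 2 0 (.L [0, 0, -1]) (.R [-1, 0, 1])) (.S 2 0 (.L [0, 0, -1]) (.S 2 (-77) (.S 6 90 (.L [0, 0, 1]) (c24_3)) (.R [0, 1, 5])))) (.S 2 0 (.R [1, 0, -1]) (.S 2 (-77) (.S 6 90 (.L [0, 0, 1]) (.S 3 0 (.R [1, 0, -1]) (.S 5 (-151) (.S 6 154 (.S 2 (-141) (.R [1, 0, -1]) (.S 5 (-215) (.S 4 0 (.S 3 (-138) (.R [1, 0, -1]) (.S 5 (-343) (.S 4 52 (.L [1, 0, 0]) (.R [1, 0, -1])) (.R [1, 0, -1]))) (.R [1, 0, -1])) (.R [1, 0, -1]))) (.S 2 (-141) (.R [1, 0, -1]) (.L [0, 0, -1]))) (.R [1, 0, -1])))) (.R [0, 0, 1])))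
def c24_5 : Cert := .S 5 169 (.S 4 52 (.R [-1, 0, 1]) (.S 6 (-550) (.S 4 244 (.L [1, 0, 0]) (.S 2 243 (.R [1, 0, -1]) (.S 6 (-870) (.S 4 564 (.L [1, 0, 0]) (.R [1, 0, -1])) (.R [5, 1, 0])))) (.R [1, 1, 4]))) (.S 5 297 (.S 4 52 (.S 6 (-486) (.L [1, 0, 0]) (.R [1, 0, 0])) (.R [1, 0, -1])) (.S 4 52 (.S 6 (-550) (.S 2 243 (.R [1, 0, -1]) (.S 5 489 (.S 6 (-678) (.L [1, 0, 0]) (.R [1, 0, 0])) (.R [1, 0, -1]))) (.R [1, 0, 0])) (.R [1, 0, -1])))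
def c24_6 : Cert := .S 5 41 (.R [0, 1, 5]) (.S 2 0 (.S 3 0 (.R [5, 1, 0]) (.S 6 (-166) (.S 2 51 (.L [0, 0, 1]) (.S 5 105 (.S 6 (-230) (.S 4 0 (.S 3 (-138) (.R [0, 1, 5]) (.R [-1, 0, 1])) (.S 3 (-202) (.R [1, 0, -1]) (.L [1, 0, 0]))) (.R [0, 1, 5])) (.S 6 (-230) (.S 4 0 (.S 2 115 (.L [-1, 0, 1]) (.S 6 (-358) (.S 3 (-138) (.R [5, 1, 0]) (c24_5)) (.R [2, 1, 3]))) (.R [1, 0, -1])) (.R [1, 1, 4])))) (.R [1, 1, 4]))) (.L [0, 0, 1]))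
def c24 : Cert := .S 6 0 (.S 6 26 (.R [-2, -1, -3]) (c24_4)) (.S 5 0 (.S 6 (-102) (c24_6) (.R [0, 1, 5])) (.R [1, 0, 0]))

theorem l24 : leafOK pr.r0 pr.t (tysOf its) [70, 70, 40, 37, 36, 35, 24] c24 = true := by decide +kernel

def c25_1 : Cert := .S 4 (-780) (.S 6 794 (.S 2 (-461) (.L [0, 0, 1]) (.S 4 (-1100) (.L [1, 0, 0]) (.S 0 0 (.S 1 0 (.R [5, 1, 0]) (.S 0 53 (.R [5, 1, 0]) (.S 1 (-139) (.R [0, 1, 5]) (.L [1, 1, 2])))) (.S 1 0 (.S 1 53 (.R [5, 1, 0]) (.S 0 (-139) (.R [0, 1, 5]) (.L [1, 1, 2]))) (.L [-1, -1, -2]))))) (.S 2 (-461) (.S 4 (-1164) (.S 0 0 (.R [3, 1, 2]) (.S 1 0 (.R [3, 1, 2]) (.L [-1, -1, -2]))) (.R [1, 0, -1])) (.L [0, 0, -1]))) (.L [-1, 0, 0])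
def c25_2 : Cert := .S 6 154 (.S 2 (-141) (.L [0, 0, 1]) (.S 4 0 (.L [-1, 0, 0]) (.S 4 (-396) (.S 3 (-138) (.R [1, 0, -1]) (.S 5 169 (.R [-1, 0, 1]) (.S 5 297 (.S 4 (-588) (.L [1, 0, 0]) (.S 4 (-460) (.S 0 0 (.S 1 0 (.L [0, 1, 0]) (.R [-2, -1, -3])) (.R [-2, -1, -3])) (.L [-1, 0, 0]))) (.R [1, 0, -1])))) (.L [-1, 0, 0])))) (.S 2 (-141) (.S 4 0 (.L [-1, 0, 0]) (.S 4 (-524) (.S 3 (-138) (.R [1, 0, -1]) (.S 5 169 (.S 6 282 (.S 2 (-205) (.L [0, 0, 1]) (.R [-1, 0, 1])) (.S 2 (-205) (.S 6 474 (.S 2 (-269) (.L [0, 0, 1]) (.R [-1, 0, 1])) (c25_1)) (.R [-1, 0, 1]))) (.R [1, 0, -1]))) (.L [-1, 0, 1]))) (.L [0, 0, -1]))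
def c25_3 : Cert := .S 3 0 (.S 5 105 (.S 3 54 (.R [1, 0, -1]) (.S 6 154 (.S 2 (-141) (.L [0, 0, 1]) (.R [0, 1, 5])) (.R [1, 1, 4]))) (.S 3 54 (.R [1, 0, -1]) (.S 6 154 (.S 2 (-141) (.R [1, 0, -1]) (.S 4 0 (.S 3 310 (.R [1, 0, -1]) (.S 5 169 (.S 4 52 (.R [0, 1, 5]) (.R [1, 0, -1])) (.R [1, 0, -1]))) (.R [1, 0, -1]))) (.R [5, 1, 0])))) (.S 5 105 (.S 6 154 (.S 2 (-141) (.L [0, 0, 1]) (.S 4 0 (.R [-1, 0, 1]) (.S 4 (-332) (.S 3 (-138) (.S 3 (-202) (.R [0, 1, 5]) (.R [-1, 0, 1])) (.R [-1, 0, 1])) (.L [-1, 0, 0])))) (.S 2 (-141) (.S 4 0 (.L [-1, 0, 0]) (.S 4 (-460) (.S 3 (-138) (.S 6 282 (.S 2 (-205) (.L [0, 0, 1]) (.R [0, 1, 5])) (.R [0, 1, 5])) (.R [-1, 0, 1])) (.L [-1, 0, 1]))) (.L [0, 0, -1]))) (c25_2))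
def c25_4 : Cert := .S 5 0 (.S 5 41 (.S 2 0 (.L [0, 0, -1]) (.R [-1, 0, 1])) (.S 2 0 (.L [0, 0, -1]) (.S 2 (-77) (.S 6 90 (.L [0, 0, 1]) (c25_3)) (.R [0, 1, 5])))) (.S 2 0 (.R [1, 0, -1]) (.S 2 (-77) (.S 6 90 (.L [0, 0, 1]) (.S 3 0 (.R [1, 0, -1]) (.S 5 (-151) (.S 6 154 (.S 2 (-141) (.R [1, 0, -1]) (.S 5 (-215) (.S 4 0 (.S 3 (-138) (.R [1, 0, -1]) (.S 5 (-343) (.S 4 52 (.L [1, 0, 0]) (.R [1, 0, -1])) (.R [1, 0, -1]))) (.R [1, 0, -1])) (.R [1, 0, -1]))) (.S 2 (-141) (.R [1, 0, -1]) (.L [0, 0, -1]))) (.R [1, 0, -1])))) (.R [0, 0, 1])))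
def c25_5 : Cert := .S 5 169 (.S 4 52 (.R [-1, 0, 1]) (.S 6 (-550) (.S 4 244 (.L [1, 0, 0]) (.S 2 243 (.R [1, 0, -1]) (.S 6 (-870) (.S 4 564 (.L [1, 0, 0]) (.R [1, 0, -1])) (.R [5, 1, 0])))) (.R [1, 1, 4]))) (.S 5 297 (.S 4 52 (.S 6 (-486) (.L [1, 0, 0]) (.R [1, 0, 0])) (.R [1, 0, -1])) (.S 4 52 (.S 6 (-550) (.S 2 243 (.R [1, 0, -1]) (.S 5 489 (.S 6 (-678) (.L [1, 0, 0]) (.R [1, 0, 0])) (.R [1, 0, -1]))) (.R [1, 0, 0])) (.R [1, 0, -1])))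
def c25_6 : Cert := .S 5 41 (.R [0, 1, 5]) (.S 2 0 (.S 3 0 (.R [5, 1, 0]) (.S 6 (-166) (.S 2 51 (.L [0, 0, 1]) (.S 5 105 (.S 6 (-230) (.S 4 0 (.S 3 (-138) (.R [0, 1, 5]) (.R [-1, 0, 1])) (.S 3 (-202) (.R [1, 0, -1]) (.L [1, 0, 0]))) (.R [0, 1, 5])) (.S 6 (-230) (.S 4 0 (.S 2 115 (.L [-1, 0, 1]) (.S 6 (-358) (.S 3 (-138) (.R [5, 1, 0]) (c25_5)) (.R [2, 1, 3]))) (.R [1, 0, -1])) (.R [1, 1, 4])))) (.R [1, 1, 4]))) (.L [0, 0, 1]))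
def c25 : Cert := .S 6 0 (.S 6 26 (.R [-2, -1, -3]) (c25_4)) (.S 5 0 (.S 6 (-102) (c25_6) (.R [0, 1, 5])) (.R [1, 0, 0]))

theorem l25 : leafOK pr.r0 pr.t (tysOf its) [70, 70, 39, 37, 36, 35, 24] c25 = true := by decide +kernel

def c26 : Cert := .R [1, 0, -1]

theorem l26 : leafOK pr.r0 pr.t (tysOf its) [67, 67, 67, 62, 38, 38, 36, 23] c26 = true := by decide +kernel

theorem h_l : ∀ ids ∈ leaves, ∃ C, leafOK pr.r0 pr.t (tysOf its) ids C = true := by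
  simp only [leaves, List.forall_mem_cons]
  exact ⟨⟨_, l0⟩, ⟨_, l1⟩, ⟨_, l2⟩, ⟨_, l3⟩, ⟨_, l4⟩, ⟨_, l5⟩, ⟨_, l6⟩, ⟨_, l7⟩, ⟨_, l8⟩, ⟨_, l9⟩, ⟨_, l10⟩, ⟨_, l11⟩, ⟨_, l12⟩, ⟨_, l13⟩, ⟨_, l14⟩, ⟨_, l15⟩, ⟨_, l16⟩, ⟨_, l17⟩, ⟨_, l18⟩, ⟨_, l19⟩, ⟨_, l20⟩, ⟨_, l21⟩, ⟨_, l22⟩, ⟨_, l23⟩, ⟨_, l24⟩, ⟨_, l25⟩, ⟨_, l26⟩, by simp⟩

end CF.Ly.E15
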